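import Mathlib
import Cfsg.Agent.Lib.Chev.TwSimply
import Cfsg.Agent.Lib.Chev.Overgroup.Facts

/-!
Kernel-checked facts about twisted root systems used for the maximality of the subfield points.
-/

set_option autoImplicit false

namespace Cfsg.Lib.Chev.TwMax

open Cfsg.Lie Cfsg.Lib.Chev.Ovg

/-- A monomial coefficient in several parameters. -/
abbrev ETerm := ℕ × ℤ × List ℕ

/-- One step of the conjugation by a root element. -/
def step (T : Tbl) (d : ℕ) (x : ETerm) : List ETerm :=
  (x.1, x.2.1, 0 :: x.2.2) :: (tTerms T d x.1).map fun c =>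
    (c.1, c.2.1 * x.2.1 ^ c.2.2.2, c.2.2.1 :: x.2.2.map (· * c.2.2.2))

/-- The conjugate of a root element by a product of root elements. -/
def expand (T : Tbl) : List ℕ → ℕ → List ETerm
  | [], s => [(s, 1, [])]
  | d :: ds, s => (expand T ds s).flatMap (step T d)

/-- A root fixed by the symmetry. -/
def isFix (S : Sym) (r : ℕ) : Bool := Nat.beq (S.root r) r

/-- The orbit of a root. -/
def orb3 (S : Sym) (s : ℕ) : List ℕ := [s, S.root s, S.root (S.root s)]

/-- Membership. -/
def mem' (l : List ℕ) (x : ℕ) : Bool := l.any (Nat.beq x)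

/-- The root paired with a root of level one. -/
def par (T : Tbl) (s : ℕ) : ℕ :=
  ((List.range T.nroots).find? fun k => oneRoot T s k (T.nroots - 1)).getD 0

/-- The commutator of a root with another is the root element of their sum. -/
def oneSum (T : Tbl) (r s : ℕ) : Bool := oneRoot T r s (((tTerms T r s).head?.map Prod.fst).getD 0)

/-- Being of level one. -/
def lv1 (T : Tbl) (r : ℕ) : Bool := decide (pr T r = 1)

/-- A listed word of orbits with a property. -/
noncomputable def anyWord (τ : TwData) (W : List (List ℕ)) (P : List ℕ → Bool) : Bool :=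
  W.any fun l => l.all (fun J => Nat.blt J τ.norb) && P (τ.oword l)

/-- Levels, signs and the pairing. -/
noncomputable def chkCoord (T : Tbl) (S : Sym) : Bool :=
  isFix S (T.nroots - 1) && allBelow (fun r =>
    (!isFix S r || decide (S.eps r = 1)) && (decide (pr T (S.root r) = pr T r) &&
    ((!lv1 T r || (oneRoot T r (par T r) (T.nroots - 1) && (Nat.blt (par T r) T.nroots && (lv1 T (par T r) &&
      allBelow (fun k => !decide (1 ≤ pr T k) || (Nat.beq k (par T r) || cm T r k)) T.nroots)))) &&
    (!decide (pr T r = 0) || cm T r (T.nroots - 1))))) T.nroots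

/-- Families of elements supported by one orbit. -/
noncomputable def chkFam (T : Tbl) (S : Sym) (τ : TwData) (W : List (List ℕ)) : Bool :=
  allBelow (fun a => !lv1 T a ||
    bif isFix S a then isFix S (par T a) &&
      allBelow (fun b => !lv1 T b || (!Nat.beq (par T b) (par T a) || mem' (orb3 S a) b)) T.nroots
    else anyWord τ W fun w =>
      let im := (τ.base 0).map (wperm T w)
      mem' im (par T a) && (im.all (fun k => decide (1 ≤ pr T k)) &&
        allBelow (fun b => !lv1 T b || (!mem' im (par T b) || mem' (orb3 S a) b)) T.nroots)) T.nroots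

/-- The moved part of the conjugate. -/
def shortTail (T : Tbl) (S : Sym) (Dl : List ℕ) (s : ℕ) : List ETerm :=
  (expand T Dl s).tail.filter fun x => !isFix S x.1

/-- The roots of an operator. -/
noncomputable def opList (T : Tbl) (τ : TwData) (op : ℕ) : List ℕ :=
  bif Nat.blt op T.nroots then [op] else bif Nat.beq op T.nroots then τ.base 0 else (τ.base 0).map T.neg

/-- The coefficients determine the parameter of `a`. -/
def determines (S : Sym) (deg a : ℕ) : List ETerm → Bool
  | [x] => sgnB x.2.1 && Nat.beq x.1 a
  | [x, y] => Nat.beq deg 3 &&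
      ((Nat.beq (S.root x.1) y.1 && (decide (y.2.1 * S.eps x.1 = x.2.1) && (sgnB x.2.1 && Nat.beq x.1 a))) ||
       (Nat.beq (S.root y.1) x.1 && (decide (x.2.1 * S.eps y.1 = y.2.1) && (sgnB y.2.1 && Nat.beq y.1 a))))
  | _ => false

/-- Each moved coordinate is detected by an operator. -/
noncomputable def chkOps (T : Tbl) (S : Sym) (τ : TwData) (deg : ℕ) : Bool :=
  allBelow (fun a => !lv1 T a || (isFix S a || anyBelow (fun op =>
    (!Nat.blt op T.nroots || isFix S op) && ((opList T τ op).all (fun d => decide (pr T d = 0)) &&
    anyBelow (fun s => lv1 T s && (determines S deg a (shortTail T S (opList T τ op) s) &&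
      allBelow (fun b => !lv1 T b || (isFix S b || (mem' (orb3 S s) b ||
        (shortTail T S (opList T τ op) b).isEmpty))) T.nroots))
      T.nroots)) (T.nroots + 2))) T.nroots

/-- The reduction of the roots of level zero and minus one. -/
noncomputable def chkGamma (T : Tbl) (S : Sym) : Bool :=
  (isFix S (T.nroots - 2) && (lv1 T (T.nroots - 2) &&
    decide (corPair T (T.nroots - 2) (T.neg (T.nroots - 1)) = -1))) &&
  allBelow (fun g => !(isFix S g && (decide (pr T g = 0) || decide (pr T g = -1))) ||
    anyBelow (fun r => isFix S r && (decide (1 ≤ pr T r) &&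
      (anyBelow (fun δ => isFix S δ && (decide (1 ≤ pr T δ) && (decide (corPair T δ g = 1) && oneRoot T r g δ))) T.nroots &&
      allBelow (fun k => !Nat.blt r k || (!decide (1 ≤ pr T k) || cm T k g)) T.nroots))) T.nroots) T.nroots

/-- The words to the highest root. -/
noncomputable def chkTopW (T : Tbl) (S : Sym) (τ : TwData) (W : List (List ℕ)) : Bool :=
  allBelow (fun δ => !(isFix S δ && decide (1 ≤ pr T δ)) || anyWord τ W fun w =>
    Nat.beq (wperm T w δ) (T.nroots - 1) &&
      allBelow (fun k => !Nat.ble T.nroots (2 * k) ||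
        (Nat.ble T.nroots (2 * wperm T w k) || oneSum T k δ)) T.nroots) T.nroots

/-- The elements used for the centraliser. -/
noncomputable def chkTest (T : Tbl) (S : Sym) (τ : TwData) (W : List (List ℕ)) : Bool :=
  allBelow (fun r => !isFix S r || anyWord τ W fun w => Nat.beq (wperm T w (T.nroots - 1)) r) T.nroots &&
  (anyWord τ W (fun w => allBelow (fun i => Nat.blt (2 * wperm T w (T.simp' i)) T.nroots) T.rank) &&
  allBelow (fun i => isFix S (T.simp' i) || anyBelow (fun r => isFix S r && anyWord τ W fun w =>
    let L := (τ.base 0).map (wperm T w)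
    L.all (fun d => Nat.ble T.nroots (2 * d) && (!Nat.beq d (T.simp' i) && (nc T r d &&
      (tTerms T r d).all fun x => Nat.ble T.nroots (2 * x.1)))) &&
    match ((L.flatMap fun d => tTerms T r d).filter fun x => Nat.beq x.1 (T.simp' i)) with
    | [x] => sgnB x.2.1
    | _ => false) T.nroots) T.rank)

/-- The first orbit reaches the others. -/
noncomputable def chkTrans (T : Tbl) (τ : TwData) (deg : ℕ) (W : List (List ℕ)) : Bool :=
  Nat.blt 0 τ.norb && (Nat.beq (τ.base 0).length deg && allBelow (fun J => Nat.beq (τ.orb J).length 1 ||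
    anyWord τ W fun w => ((τ.base 0).map (wperm T w)).all (mem' (τ.base J)) &&
      Nat.beq (τ.base J).length (τ.base 0).length) τ.norb)

/-- All facts except the one for the degree three. -/
noncomputable def chkAll (T : Tbl) (S : Sym) (τ : TwData) (deg : ℕ) (W : List (List ℕ)) : Bool :=
  chkCoord T S && (chkFam T S τ W && (chkOps T S τ deg && (chkGamma T S && (chkTopW T S τ W &&
    (chkTest T S τ W && chkTrans T τ deg W)))))

/-- One entry one, the others zero. -/
noncomputable def oneHot (es : List ℕ) (i : ℕ) : Bool := eqNats es ((List.range 3).map fun j => bif Nat.beq j i then 1 else 0)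

/-- One entry zero, the others one. -/
noncomputable def oneCold (es : List ℕ) (i : ℕ) : Bool := eqNats es ((List.range 3).map fun j => bif Nat.beq j i then 0 else 1)

/-- The quadratic map on the parameters of an orbit of length three. -/
noncomputable def chkQuad (T : Tbl) (S : Sym) (τ : TwData) (W : List (List ℕ)) : Bool :=
  anyBelow (fun b => isFix S b && (lv1 T b && ((τ.base 0).all (fun d => decide (pr T d = 0)) &&
    anyBelow (fun s₁ => lv1 T s₁ && (!isFix S s₁ &&
      (match (expand T (τ.base 0) s₁).tail.filter (fun x => Nat.beq (par T x.1) b) with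
        | [x] => sgnB x.2.1 && lv1 T x.1 && (anyBelow (fun i => oneHot x.2.2 i && anyWord τ W fun w =>
            let im := (τ.base 0).map (wperm T w)
            Nat.beq (im.getD i 0) (par T s₁) && (im.all (fun k => decide (1 ≤ pr T k)) &&
              allBelow (fun c => !lv1 T c || (!mem' im (par T c) || mem' (orb3 S s₁) c)) T.nroots)) 3)
        | _ => false) &&
      anyBelow (fun s₂ => lv1 T s₂ && (!isFix S s₂ && (!mem' (orb3 S s₁) s₂ && (!Nat.beq (par T s₂) b &&
        ((orb3 S s₁).all (fun c => !mem' (orb3 S s₂) c) &&
        (allBelow (fun c => !lv1 T c || (isFix S c || (mem' (orb3 S s₁) c || mem' (orb3 S s₂) c))) T.nroots &&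
        match (expand T (τ.base 0) s₂).tail.filter (fun x => Nat.beq (par T x.1) b) with
        | [x] => sgnB x.2.1 && lv1 T x.1 && anyBelow (fun i => oneCold x.2.2 i) 3
        | _ => false)))))) T.nroots)) T.nroots))) T.nroots

end Cfsg.Lib.Chev.TwMax
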