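import Mathlib
import Cfsg.Agent.Lib.Chev.TwAutBase
import Cfsg.Agent.Lib.Chev.Overgroup.High
import Cfsg.Agent.Lib.Chev.TwMax.Check

/-!
Coordinates of the Heisenberg group modulo its centre, read off from commutators.
-/

set_option autoImplicit false
set_option linter.unusedSectionVars false
set_option linter.unusedVariables false

namespace Cfsg.Lib.Chev.TwMax

open Cfsg.Lie Cfsg.Lib.Chev.Ovg

variable {D : ChevalleyDatum} {T : Tbl} {F : Type*} [Field F] (X : TwCtx D T F) {L : ℕ}
  (hB : Ovg.chkBase T L = true) {W : List (List ℕ)} (hA : chkAll T X.sym X.tw X.deg W = true)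

/-- The highest root. -/
abbrev top (D : ChevalleyDatum) : ℕ := D.nroots - 1

/-- The points with fixed entries. -/
noncomputable def pts : Subgroup (GL D.Idx F) :=
  X.grp ⊓ MonoidHom.eqLocus (Matrix.GeneralLinearGroup.map (n := D.Idx) X.frob) (MonoidHom.id _)

theorem mem_pts {g : GL D.Idx F} :
    g ∈ pts X ↔ g ∈ X.grp ∧ Matrix.GeneralLinearGroup.map X.frob g = g := Subgroup.mem_inf

theorem mem_grp {g : GL D.Idx F} : g ∈ X.grp ↔ g ∈ D.group F ∧ X.sig g = g := Iff.rfl

theorem eps_sq {r : ℕ} (hr : r < D.nroots) : (X.sym.eps r : F) * (X.sym.eps r : F) = 1 := by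
  rcases X.symOK.eps_cases r hr with h | h <;> simp [h]

theorem sgnB_sq {c : ℤ} (h : sgnB c = true) : (c : F) * (c : F) = 1 := by
  simp only [sgnB, Bool.or_eq_true, decide_eq_true_eq] at h
  rcases h with h | h <;> simp [h]

include hB hA

theorem nroots_pos : 0 < D.nroots := by
  have h : chkTrans T X.tw X.deg W = true := by
    simp only [chkAll, Bool.and_eq_true] at hA; exact hA.2.2.2.2.2.2
  simp only [chkTrans, Bool.and_eq_true, Nat.blt_eq] at h
  obtain ⟨i, hi⟩ := List.exists_mem_of_ne_nil _ (X.comb.orb_ne 0 h.1)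
  have := X.cert.spec.simp_lt i (X.comb.orb_lt 0 h.1 i hi)
  omega

theorem top_lt : top D < D.nroots := by
  have := nroots_pos X hB hA
  simp only [top]; omega

theorem coord_facts (r : ℕ) (hr : r < D.nroots) :
    (isFix X.sym r = true → X.sym.eps r = 1) ∧ pr T (X.sym.root r) = pr T r ∧
    (pr T r = 1 → oneRoot T r (par T r) (top D) = true ∧ par T r < D.nroots ∧ pr T (par T r) = 1 ∧
      ∀ k < D.nroots, 1 ≤ pr T k → k ≠ par T r → cm T r k = true) ∧
    (pr T r = 0 → cm T r (top D) = true) := by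
  have h : chkCoord T X.sym = true := by simp only [chkAll, Bool.and_eq_true] at hA; exact hA.1
  simp only [chkCoord, Bool.and_eq_true, allBelow_iff, X.cert.spec.shape.nroots_eq] at h
  obtain ⟨-, h⟩ := h
  obtain ⟨h1, h2, h3, h4⟩ := h r hr
  refine ⟨fun e => ?_, of_decide_eq_true h2, fun e => ?_, fun e => ?_⟩
  · simpa [e] using h1
  · simp only [lv1, e, decide_true, Bool.not_true, Bool.false_or, Bool.and_eq_true, Nat.blt_eq, allBelow_iff,
      decide_eq_true_eq, Bool.or_eq_true, Bool.not_eq_true', decide_eq_false_iff_not, Nat.beq_eq] at h3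
    obtain ⟨a, b, c, d⟩ := h3
    exact ⟨a, b, c, fun k hk h1k hne => ((d k hk).resolve_left (not_not_intro h1k)).resolve_left hne⟩
  · simpa [e] using h4

theorem top_fix : X.sym.root (top D) = top D ∧ X.sym.eps (top D) = 1 := by
  have h : chkCoord T X.sym = true := by simp only [chkAll, Bool.and_eq_true] at hA; exact hA.1
  simp only [chkCoord, Bool.and_eq_true, X.cert.spec.shape.nroots_eq] at h
  refine ⟨?_, (coord_facts X hB hA _ (top_lt X hB hA)).1 h.1⟩
  simpa [isFix] using h.1

theorem sig_xg {r : ℕ} (hr : r < D.nroots) (t : F) :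
    X.sig (xg X.cert r t) = xg X.cert (X.sym.root r) ((X.sym.eps r : ℤ) * X.frob t) :=
  twSigma_xg X.cert X.symOK X.frob hr t

theorem sig_fix {r : ℕ} (hr : r < D.nroots) (hf : isFix X.sym r = true) (t : F) :
    X.sig (xg X.cert r t) = xg X.cert r (X.frob t) := by
  rw [sig_xg X hB hA hr, (coord_facts X hB hA r hr).1 hf, Int.cast_one, one_mul]
  congr 1
  simpa [isFix] using hf

/-- A root element of a fixed root is a point if its parameter is fixed. -/
theorem xg_pts {r : ℕ} (hr : r < D.nroots) (hf : isFix X.sym r = true) {t : F} (ht : X.frob t = t) :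
    xg X.cert r t ∈ pts X := by
  refine (mem_pts X).2 ⟨⟨xg_mem_group X.cert r t, ?_⟩, by rw [map_xg, ht]⟩
  rw [sig_fix X hB hA hr hf, ht]

theorem xg_grp_iff {r : ℕ} (hr : r < D.nroots) (hf : isFix X.sym r = true) (t : F) :
    xg X.cert r t ∈ X.grp ↔ X.frob t = t := by
  refine ⟨fun h => ?_, fun h => (xg_pts X hB hA hr hf h).1⟩
  have e := h.2
  rw [sig_fix X hB hA hr hf] at e
  exact xg_injective X.cert hr e

/-- The defining property of a coordinate. -/
def IsZ (s : ℕ) (y : GL D.Idx F) (z : F) : Prop :=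
  ∀ t : F, xg X.cert s t * y * (xg X.cert s t)⁻¹ = y * xg X.cert (top D) (t * z)

theorem isZ_exists {s : ℕ} (hs : s < D.nroots) (h1 : pr T s = 1) {y : GL D.Idx F} (hy : y ∈ qup X.cert F 0) :
    ∃ z, IsZ X s y z := by
  obtain ⟨-, -, hp, -⟩ := coord_facts X hB hA s hs
  obtain ⟨hone, hpl, -, hcm⟩ := hp h1
  induction hy using Subgroup.closure_induction with
  | mem g hg =>
    obtain ⟨r, b, hr, hr1, -, rfl⟩ := hg
    by_cases hrp : r = par T s
    · subst hrp
      obtain ⟨κ, -, e⟩ := comm_oneRoot X.cert (F := F) X.full hs hpl hone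
      exact ⟨κ * b, fun t => by rw [e]; congr 2; ring⟩
    · refine ⟨0, fun t => ?_⟩
      rw [(cm_commute X.cert X.full hs hr (hcm r hr hr1 hrp) t b).eq, mul_inv_cancel_right, mul_zero, xg_zero, mul_one]
  | one => exact ⟨0, fun t => by simp [xg_zero]⟩
  | mul a b ha hb iha ihb =>
    obtain ⟨za, ea⟩ := iha
    obtain ⟨zb, eb⟩ := ihb
    refine ⟨za + zb, fun t => ?_⟩
    have hc := (top_comm X.cert X.full (nroots_pos X hB hA) (qup_le_pos X.cert X.full hB _ hb) (t * za)).eq
    calc xg X.cert s t * (a * b) * (xg X.cert s t)⁻¹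
        = (xg X.cert s t * a * (xg X.cert s t)⁻¹) * (xg X.cert s t * b * (xg X.cert s t)⁻¹) := by group
      _ = a * (xg X.cert (top D) (t * za) * b) * xg X.cert (top D) (t * zb) := by rw [ea t, eb t]; group
      _ = _ := by rw [← hc, mul_add, ← xg_add]; group
  | inv a ha iha =>
    obtain ⟨za, ea⟩ := iha
    refine ⟨-za, fun t => ?_⟩
    have hc := top_comm X.cert X.full (nroots_pos X hB hA) (qup_le_pos X.cert X.full hB _ ha) (t * za)
    calc xg X.cert s t * a⁻¹ * (xg X.cert s t)⁻¹ = (xg X.cert s t * a * (xg X.cert s t)⁻¹)⁻¹ := by group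
      _ = (xg X.cert (top D) (t * za))⁻¹ * a⁻¹ := by rw [ea t, mul_inv_rev]
      _ = _ := by rw [← hc.inv_inv.eq, mul_neg, ← xg_inv]

omit hB hA

open Classical in
/-- The coordinate at the root paired with `s`. -/
noncomputable def zc (s : ℕ) (y : GL D.Idx F) : F := if h : ∃ z, IsZ X s y z then h.choose else 0

include hB hA

theorem zc_spec {s : ℕ} (hs : s < D.nroots) (h1 : pr T s = 1) {y : GL D.Idx F} (hy : y ∈ qup X.cert F 0) :
    IsZ X s y (zc X s y) := by
  have h := isZ_exists X hB hA hs h1 hy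
  rw [zc, dif_pos h]
  exact h.choose_spec

theorem zc_eq {s : ℕ} (hs : s < D.nroots) (h1 : pr T s = 1) {y : GL D.Idx F} (hy : y ∈ qup X.cert F 0) {z : F}
    (h : xg X.cert s 1 * y * (xg X.cert s 1)⁻¹ = y * xg X.cert (top D) z) : zc X s y = z := by
  have e := zc_spec X hB hA hs h1 hy 1
  rw [h, one_mul] at e
  exact (xg_injective X.cert (top_lt X hB hA) (mul_left_cancel e)).symm

theorem zc_mul {s : ℕ} (hs : s < D.nroots) (h1 : pr T s = 1) {a b : GL D.Idx F} (ha : a ∈ qup X.cert F 0)
    (hb : b ∈ qup X.cert F 0) : zc X s (a * b) = zc X s a + zc X s b := by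
  refine zc_eq X hB hA hs h1 (mul_mem ha hb) ?_
  have ea := zc_spec X hB hA hs h1 ha 1
  have eb := zc_spec X hB hA hs h1 hb 1
  rw [one_mul] at ea eb
  have hc := (top_comm X.cert X.full (nroots_pos X hB hA) (qup_le_pos X.cert X.full hB _ hb) (zc X s a)).eq
  calc xg X.cert s 1 * (a * b) * (xg X.cert s 1)⁻¹
      = (xg X.cert s 1 * a * (xg X.cert s 1)⁻¹) * (xg X.cert s 1 * b * (xg X.cert s 1)⁻¹) := by group
    _ = a * (xg X.cert (top D) (zc X s a) * b) * xg X.cert (top D) (zc X s b) := by rw [ea, eb]; group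
    _ = _ := by rw [← hc, ← xg_add]; group

theorem zc_one {s : ℕ} (hs : s < D.nroots) (h1 : pr T s = 1) : zc X s (1 : GL D.Idx F) = 0 :=
  zc_eq X hB hA hs h1 (one_mem _) (by simp [xg_zero])

theorem zc_inv {s : ℕ} (hs : s < D.nroots) (h1 : pr T s = 1) {a : GL D.Idx F} (ha : a ∈ qup X.cert F 0) :
    zc X s a⁻¹ = -zc X s a := by
  have := zc_mul X hB hA hs h1 (inv_mem ha) ha
  rw [inv_mul_cancel, zc_one X hB hA hs h1] at this
  linear_combination -this

theorem zc_diff {s : ℕ} (hs : s < D.nroots) (h1 : pr T s = 1) {a b : GL D.Idx F} (ha : a ∈ qup X.cert F 0)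
    (hb : b ∈ qup X.cert F 0) : zc X s (a⁻¹ * b) = zc X s b - zc X s a := by
  rw [zc_mul X hB hA hs h1 (inv_mem ha) hb, zc_inv X hB hA hs h1 ha]; ring

theorem zc_root {s k : ℕ} (hs : s < D.nroots) (h1 : pr T s = 1) (hk : k < D.nroots) (hk1 : 1 ≤ pr T k)
    (hne : k ≠ par T s) (t : F) : zc X s (xg X.cert k t) = 0 := by
  refine zc_eq X hB hA hs h1 (xg_mem_qup X.cert hk hk1 (Nat.zero_le _) t) ?_
  rw [(cm_commute X.cert X.full hs hk (((coord_facts X hB hA s hs).2.2.1 h1).2.2.2 k hk hk1 hne) 1 t).eq,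
    mul_inv_cancel_right, xg_zero, mul_one]

theorem zc_par {s : ℕ} (hs : s < D.nroots) (h1 : pr T s = 1) :
    ∃ κ : F, κ * κ = 1 ∧ ∀ t : F, zc X s (xg X.cert (par T s) t) = κ * t := by
  obtain ⟨hone, hpl, hp1, -⟩ := (coord_facts X hB hA s hs).2.2.1 h1
  obtain ⟨κ, hκ, e⟩ := comm_oneRoot X.cert (F := F) X.full hs hpl hone
  refine ⟨κ, hκ, fun t => zc_eq X hB hA hs h1 (xg_mem_qup X.cert hpl hp1.ge (Nat.zero_le _) t) ?_⟩
  rw [e, mul_one]

theorem par_par {k : ℕ} (hk : k < D.nroots) (h1 : pr T k = 1) : par T (par T k) = k := by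
  obtain ⟨hone, hpl, hp1, -⟩ := (coord_facts X hB hA k hk).2.2.1 h1
  by_contra hne
  obtain ⟨κ, hκ, e⟩ := comm_oneRoot X.cert (F := F) X.full hk hpl hone
  have hc := cm_commute X.cert X.full hpl hk
    (((coord_facts X hB hA _ hpl).2.2.1 hp1).2.2.2 k hk h1.ge (Ne.symm hne)) (1 : F) 1
  have e' := e 1 1
  rw [hc.symm.eq, mul_inv_cancel_right, left_eq_mul, mul_one, mul_one] at e'
  exact sq_one_ne X.cert hκ (xg_eq_one X.cert (top_lt X hB hA) e')

theorem map_qup' {k : ℕ} {x : GL D.Idx F} (hx : x ∈ qup X.cert F k) :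
    Matrix.GeneralLinearGroup.map X.frob x ∈ qup X.cert F k := by
  suffices h : qup X.cert F k ≤ (qup X.cert F k).comap (Matrix.GeneralLinearGroup.map (n := D.Idx) X.frob) from h hx
  refine (Subgroup.closure_le _).2 ?_
  rintro y ⟨r, t, hr, h1, hk, rfl⟩
  show Matrix.GeneralLinearGroup.map X.frob (xg X.cert r t) ∈ qup X.cert F k
  rw [map_xg]
  exact xg_mem_qup X.cert hr h1 hk _

theorem zc_map {s : ℕ} (hs : s < D.nroots) (h1 : pr T s = 1) {y : GL D.Idx F} (hy : y ∈ qup X.cert F 0) :
    zc X s (Matrix.GeneralLinearGroup.map X.frob y) = X.frob (zc X s y) := by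
  refine zc_eq X hB hA hs h1 (map_qup' X hB hA hy) ?_
  have e := congrArg (Matrix.GeneralLinearGroup.map X.frob) (zc_spec X hB hA hs h1 hy 1)
  rw [map_mul, map_mul, map_inv, map_mul, map_xg, map_xg, map_one, one_mul] at e
  exact e

/-- The coordinates of a point are fixed. -/
theorem zc_pts {s : ℕ} (hs : s < D.nroots) (h1 : pr T s = 1) {y : GL D.Idx F} (hy : y ∈ qup X.cert F 0)
    (hp : y ∈ pts X) : X.frob (zc X s y) = zc X s y := by
  rw [← zc_map X hB hA hs h1 hy, ((mem_pts X).1 hp).2]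

theorem zc_sig {s : ℕ} (hs : s < D.nroots) (h1 : pr T s = 1) {y : GL D.Idx F} (hy : y ∈ qup X.cert F 0)
    (hg : y ∈ X.grp) : zc X (X.sym.root s) y = (X.sym.eps s : F) * X.frob (zc X s y) := by
  have hρ := X.symOK.root_lt s hs
  have hρ1 : pr T (X.sym.root s) = 1 := (coord_facts X hB hA s hs).2.1.trans h1
  obtain ⟨hθ, hθe⟩ := top_fix X hB hA
  have e1 := congrArg X.sig (zc_spec X hB hA hs h1 hy 1)
  simp only [TwCtx.sig, twSigma_mul] at e1
  have hinv : twSigma X.symOK X.frob ((xg X.cert s (1 : F))⁻¹) = (twSigma X.symOK X.frob (xg X.cert s 1))⁻¹ :=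
    X.ok.map_inv X.cert (xg_mem_group X.cert s 1)
  rw [hinv, show twSigma X.symOK X.frob y = y from hg.2, twSigma_xg X.cert X.symOK X.frob hs, map_one, mul_one,
    twSigma_xg X.cert X.symOK X.frob (top_lt X hB hA), hθ, hθe, Int.cast_one, one_mul, one_mul,
    zc_spec X hB hA hρ hρ1 hy _] at e1
  have e2 := xg_injective X.cert (top_lt X hB hA) (mul_left_cancel e1)
  linear_combination (X.sym.eps s : F) * e2 - zc X (X.sym.root s) y * eps_sq X hs

theorem zc_sig_zero {s : ℕ} (hs : s < D.nroots) (h1 : pr T s = 1) {y : GL D.Idx F} (hy : y ∈ qup X.cert F 0)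
    (hg : y ∈ X.grp) (h0 : zc X s y = 0) {b : ℕ} (hb : mem' (orb3 X.sym s) b = true) : zc X b y = 0 := by
  have e1 : zc X (X.sym.root s) y = 0 := by rw [zc_sig X hB hA hs h1 hy hg, h0, map_zero, mul_zero]
  have hρ := X.symOK.root_lt s hs
  have hρ1 : pr T (X.sym.root s) = 1 := (coord_facts X hB hA s hs).2.1.trans h1
  simp only [mem', orb3, List.any_cons, List.any_nil, Bool.or_false, Bool.or_eq_true, Nat.beq_eq] at hb
  rcases hb with rfl | rfl | rfl
  · exact h0
  · exact e1
  · rw [zc_sig X hB hA hρ hρ1 hy hg, e1, map_zero, mul_zero]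

theorem fix_zc {s : ℕ} (hs : s < D.nroots) (h1 : pr T s = 1) (hf : isFix X.sym s = true) {y : GL D.Idx F}
    (hy : y ∈ qup X.cert F 0) (hg : y ∈ X.grp) : X.frob (zc X s y) = zc X s y := by
  have e := zc_sig X hB hA hs h1 hy hg
  rw [(coord_facts X hB hA s hs).1 hf, Int.cast_one, one_mul,
    show X.sym.root s = s by simpa [isFix] using hf] at e
  exact e.symm

/-- An element without coordinates is central. -/
theorem qup_zero {y : GL D.Idx F} (hy : y ∈ qup X.cert F 0)
    (h : ∀ s < D.nroots, pr T s = 1 → zc X s y = 0) : ∃ c, y = xg X.cert (top D) c := by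
  have strip : ∀ (N k : ℕ) (e : GL D.Idx F), top D - k = N → e ∈ qup X.cert F k →
      (∀ s < D.nroots, pr T s = 1 → zc X s e = 0) → ∃ c, e = xg X.cert (top D) c := by
    intro N
    induction N using Nat.strong_induction_on with
    | _ N ih =>
      intro k e hN he hz
      by_cases hk : top D ≤ k
      · exact qup_top X.cert X.full hB (qup_anti X.cert hk he)
      obtain ⟨t, b, hb, ht, rfl⟩ := qup_step X.cert X.full hB he
      have hlt := top_lt X hB hA
      have ht0 : t = 0 := by
        by_cases hk1 : 1 ≤ pr T k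
        swap
        · exact ht (by omega)
        have hkn : k < D.nroots := by omega
        have hp1 : pr T k = 1 := by
          obtain ⟨-, h2, h3, -⟩ := (base X.cert X.full hB k hkn).1
          by_contra hne
          have := h3 (by omega)
          simp only [top] at hk
          omega
        obtain ⟨-, hpl, hs1, -⟩ := (coord_facts X hB hA k hkn).2.2.1 hp1
        have hzb : zc X (par T k) b = 0 := by
          clear he hz ht
          induction hb using Subgroup.closure_induction with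
          | mem g hg =>
            obtain ⟨r, u, hr, hr1, hkr, rfl⟩ := hg
            exact zc_root X hB hA hpl hs1 hr hr1 (by rw [par_par X hB hA hkn hp1]; omega) u
          | one => exact zc_one X hB hA hpl hs1
          | mul a c ha hc iha ihc =>
            rw [zc_mul X hB hA hpl hs1 (qup_anti X.cert (Nat.zero_le _) ha) (qup_anti X.cert (Nat.zero_le _) hc),
              iha, ihc, add_zero]
          | inv a ha iha => rw [zc_inv X hB hA hpl hs1 (qup_anti X.cert (Nat.zero_le _) ha), iha, neg_zero]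
        have e := hz _ hpl hs1
        rw [zc_mul X hB hA hpl hs1 (xg_mem_qup X.cert hkn hk1 (Nat.zero_le _) t) (qup_anti X.cert (Nat.zero_le _) hb),
          hzb, add_zero] at e
        obtain ⟨κ, hκ, ek⟩ := zc_par X hB hA hpl hs1
        rw [par_par X hB hA hkn hp1] at ek
        rw [ek] at e
        exact (mul_eq_zero.1 e).resolve_left (sq_one_ne X.cert hκ)
      rw [ht0, xg_zero, one_mul] at hz ⊢
      exact ih _ (by omega) (k + 1) b rfl hb hz
  exact strip _ 0 y rfl hy h

omit hB hA

/-- A product of root elements along two lists. -/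
noncomputable def xprod : List ℕ → List F → GL D.Idx F
  | d :: ds, t :: ts => xg X.cert d t * xprod ds ts
  | _, _ => 1

/-- The value of a monomial. -/
def ev : List F → List ℕ → F
  | t :: ts, e :: es => t ^ e * ev ts es
  | _, _ => 1

theorem ev_pow (j : ℕ) : ∀ (ts : List F) (es : List ℕ), ev ts (es.map (· * j)) = ev ts es ^ j
  | [], [] => by simp [ev]
  | [], _ :: _ => by simp [ev]
  | _ :: _, [] => by simp [ev]
  | t :: ts, e :: es => by
    simp only [List.map_cons, ev, ev_pow j ts es, pow_mul, mul_pow]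

/-- The factors of a conjugate. -/
noncomputable def eterm (ts : List F) (x : ETerm) : GL D.Idx F := xg X.cert x.1 ((x.2.1 : F) * ev ts x.2.2)

include hB hA

theorem zero_conj_qup {d : ℕ} (hd : d < D.nroots) (h0 : pr T d = 0) (t : F) {x : GL D.Idx F}
    (hx : x ∈ qup X.cert F 0) : xg X.cert d t * x * (xg X.cert d t)⁻¹ ∈ qup X.cert F 0 := by
  refine conj_mem_closure ?_ hx
  rintro y ⟨r, u, hr, h1, -, rfl⟩
  have h2 : r ≠ d := fun e => by rw [e, h0] at h1; omega
  have h3 : r ≠ T.neg d := fun e => by rw [e, pr_neg X.cert hd, h0] at h1; omega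
  rw [conj_prod X.cert X.full hd hr (by
    simp only [nc, Bool.and_eq_true, Bool.not_eq_true', ← Bool.not_eq_true, Nat.beq_eq]; exact ⟨h2, h3⟩) t u]
  refine mul_mem (xg_mem_qup X.cert hr h1 (Nat.zero_le _) u) (list_prod_mem fun z hz => ?_)
  obtain ⟨c, hc, rfl⟩ := List.mem_map.1 hz
  obtain ⟨c1, c2, c3, c4, -⟩ := pr_term X.cert X.full hB hd hr hc
  exact xg_mem_qup X.cert c1 (by rw [c4, h0]; nlinarith) (Nat.zero_le _) _

theorem xprod_conj_qup : ∀ (ds : List ℕ) (ts : List F), (∀ d ∈ ds, d < D.nroots ∧ pr T d = 0) →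
    ∀ {x : GL D.Idx F}, x ∈ qup X.cert F 0 → xprod X ds ts * x * (xprod X ds ts)⁻¹ ∈ qup X.cert F 0 := by
  intro ds
  induction ds with
  | nil => intro ts _ x hx; simpa [xprod] using hx
  | cons d ds ih =>
    intro ts hd x hx
    cases ts with
    | nil => simpa [xprod] using hx
    | cons t ts =>
      have := zero_conj_qup X hB hA (hd d (List.mem_cons_self ..)).1 (hd d (List.mem_cons_self ..)).2 t
        (ih ts (fun e he => hd e (List.mem_cons_of_mem _ he)) hx)
      simpa [xprod, mul_assoc] using this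

theorem expand_spec : ∀ (ds : List ℕ) (ts : List F), ts.length = ds.length →
    (∀ d ∈ ds, d < D.nroots ∧ pr T d = 0) → ∀ {s : ℕ}, s < D.nroots → pr T s = 1 →
      (∃ es tl, expand T ds s = (s, 1, es) :: tl ∧ ev ts es = (1 : F)) ∧
      (∀ x ∈ expand T ds s, x.1 < D.nroots ∧ 1 ≤ pr T x.1) ∧
      xprod X ds ts * xg X.cert s 1 * (xprod X ds ts)⁻¹ = ((expand T ds s).map (eterm X ts)).prod := by
  intro ds
  induction ds with
  | nil =>
    intro ts hlen _ s hs h1
    obtain rfl : ts = [] := List.eq_nil_of_length_eq_zero hlen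
    exact ⟨⟨[], [], rfl, rfl⟩, fun x hx => by simp [expand] at hx; subst hx; exact ⟨hs, h1.ge⟩,
      by simp [xprod, expand, eterm, ev]⟩
  | cons d ds ih =>
    intro ts hlen hd s hs h1
    cases ts with
    | nil => simp at hlen
    | cons t ts =>
      obtain ⟨⟨es, tl, e, hev⟩, hmem, hprod⟩ := ih ts (by simpa using hlen)
        (fun c hc => hd c (List.mem_cons_of_mem _ hc)) hs h1
      obtain ⟨hdl, hd0⟩ := hd d (List.mem_cons_self ..)
      have hnc : ∀ x ∈ expand T ds s, nc T d x.1 = true := fun x hx => by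
        obtain ⟨-, h2⟩ := hmem x hx
        simp only [nc, Bool.and_eq_true, Bool.not_eq_true', ← Bool.not_eq_true, Nat.beq_eq]
        exact ⟨fun e' => by rw [e', hd0] at h2; omega, fun e' => by rw [e', pr_neg X.cert hdl, hd0] at h2; omega⟩
      refine ⟨⟨0 :: es, ((tTerms T d s).map fun c => (c.1, c.2.1 * (1 : ℤ) ^ c.2.2.2, c.2.2.1 :: es.map (· * c.2.2.2))) ++
          tl.flatMap (step T d), ?_, ?_⟩, ?_, ?_⟩
      · rw [expand, e, List.flatMap_cons, step]; rfl
      · simp [ev, hev]
      · intro x hx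
        rw [expand, List.mem_flatMap] at hx
        obtain ⟨y, hy, hx⟩ := hx
        obtain ⟨y1, y2⟩ := hmem y hy
        rw [step, List.mem_cons, List.mem_map] at hx
        rcases hx with rfl | ⟨c, hc, rfl⟩
        · exact ⟨y1, y2⟩
        · obtain ⟨c1, c2, c3, c4, -⟩ := pr_term X.cert X.full hB hdl y1 hc
          exact ⟨c1, by show 1 ≤ pr T c.1; rw [c4, hd0]; nlinarith⟩
      · rw [show xprod X (d :: ds) (t :: ts) * xg X.cert s 1 * (xprod X (d :: ds) (t :: ts))⁻¹ =
          xg X.cert d t * (xprod X ds ts * xg X.cert s 1 * (xprod X ds ts)⁻¹) * (xg X.cert d t)⁻¹ by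
          simp [xprod, mul_assoc], hprod, expand]
        suffices key : ∀ l : List ETerm, (∀ x ∈ l, x.1 < D.nroots ∧ nc T d x.1 = true) →
            xg X.cert d t * (l.map (eterm X ts)).prod * (xg X.cert d t)⁻¹ =
              ((l.flatMap (step T d)).map (eterm X (t :: ts))).prod from key _ fun x hx => ⟨(hmem x hx).1, hnc x hx⟩
        intro l
        induction l with
        | nil => simp
        | cons y l ihl =>
          intro hl
          obtain ⟨hy, hyn⟩ := hl y (List.mem_cons_self ..)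
          rw [List.flatMap_cons, List.map_append, List.prod_append,
            ← ihl fun x hx => hl x (List.mem_cons_of_mem _ hx), List.map_cons, List.prod_cons,
            show xg X.cert d t * (eterm X ts y * (l.map (eterm X ts)).prod) * (xg X.cert d t)⁻¹ =
              xg X.cert d t * xg X.cert y.1 ((y.2.1 : F) * ev ts y.2.2) * (xg X.cert d t)⁻¹ *
                (xg X.cert d t * (l.map (eterm X ts)).prod * (xg X.cert d t)⁻¹) by rw [eterm]; group,
            conj_prod X.cert X.full hdl hy hyn]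
          congr 1
          rw [step, List.map_cons, List.prod_cons, List.map_map]
          congr 1
          · simp [eterm, ev]
          · congr 1
            refine List.map_congr_left fun c _ => ?_
            simp only [Function.comp_apply, eterm, ev, ev_pow, Int.cast_mul, Int.cast_pow]
            congr 1
            ring

/-- A product of level zero commutes with the highest root group. -/
theorem xprod_top : ∀ (ds : List ℕ) (ts : List F), (∀ d ∈ ds, d < D.nroots ∧ pr T d = 0) → ∀ a : F,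
    Commute (xprod X ds ts) (xg X.cert (top D) a) := by
  intro ds
  induction ds with
  | nil => intro ts _ a; simp [xprod]
  | cons d ds ih =>
    intro ts hd a
    cases ts with
    | nil => simp [xprod]
    | cons t ts =>
      obtain ⟨hdl, hd0⟩ := hd d (List.mem_cons_self ..)
      exact (cm_commute X.cert X.full hdl (top_lt X hB hA) ((coord_facts X hB hA d hdl).2.2.2 hd0) t a).mul_left
        (ih ts (fun e he => hd e (List.mem_cons_of_mem _ he)) a)

theorem isZ_prod {y : GL D.Idx F} (hy : y ∈ qup X.cert F 0) (ts : List F) : ∀ l : List ETerm,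
    (∀ x ∈ l, x.1 < D.nroots ∧ 1 ≤ pr T x.1) → ∃ z : F,
      (l.map (eterm X ts)).prod * y * ((l.map (eterm X ts)).prod)⁻¹ = y * xg X.cert (top D) z ∧
      z = (l.map fun x => (x.2.1 : F) * ev ts x.2.2 * (if pr T x.1 = 1 then zc X x.1 y else 0)).sum := by
  intro l hl
  refine ⟨_, ?_, rfl⟩
  refine conj_list_prod (fun a => xg X.cert (top D) a) (xg_zero X.cert _) (fun a b => xg_add X.cert _ a b) y
    (eterm X ts) _ l fun x hx => ?_
  obtain ⟨h1, h2⟩ := hl x hx
  have hxp := xg_mem_pos X.cert (F := F) h1 ((base X.cert X.full hB x.1 h1).1.2.2.2.2.1 h2)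
  refine ⟨?_, fun a => top_comm X.cert X.full (nroots_pos X hB hA) (hxp _) a⟩
  by_cases hp : pr T x.1 = 1
  · rw [if_pos hp, eterm, zc_spec X hB hA h1 hp hy]
  · obtain ⟨-, h4, h5, -⟩ := (base X.cert X.full hB x.1 h1).1
    rw [if_neg hp, mul_zero, eterm, xg_zero, mul_one, h5 (by omega),
      (top_comm X.cert X.full (nroots_pos X hB hA) (qup_le_pos X.cert X.full hB _ hy) _).symm.eq,
      mul_inv_cancel_right]

/-- The coordinates of a conjugate by a product of level zero. -/
theorem zc_conj {ds : List ℕ} {ts : List F} (hlen : ts.length = ds.length)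
    (hd : ∀ d ∈ ds, d < D.nroots ∧ pr T d = 0) {y : GL D.Idx F} (hy : y ∈ qup X.cert F 0)
    (hy' : (xprod X ds ts)⁻¹ * y * xprod X ds ts * y⁻¹ ∈ qup X.cert F 0)
    {s : ℕ} (hs : s < D.nroots) (h1 : pr T s = 1) :
    zc X s ((xprod X ds ts)⁻¹ * y * xprod X ds ts * y⁻¹) =
      ((expand T ds s).tail.map fun x => (x.2.1 : F) * ev ts x.2.2 * (if pr T x.1 = 1 then zc X x.1 y else 0)).sum := by
  obtain ⟨⟨es, tl, e, hev⟩, hmem, hprod⟩ := expand_spec X hB hA ds ts hlen hd hs h1
  obtain ⟨z, ez, hz⟩ := isZ_prod X hB hA hy ts _ hmem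
  have hy2 : (xprod X ds ts)⁻¹ * y * xprod X ds ts ∈ qup X.cert F 0 := by
    simpa [mul_assoc] using mul_mem hy' hy
  have h2 : zc X s ((xprod X ds ts)⁻¹ * y * xprod X ds ts) = z := by
    refine zc_eq X hB hA hs h1 hy2 ?_
    rw [← hprod] at ez
    set P := xprod X ds ts with hP
    calc xg X.cert s 1 * (P⁻¹ * y * P) * (xg X.cert s 1)⁻¹
        = P⁻¹ * (P * xg X.cert s 1 * P⁻¹ * y * (P * xg X.cert s 1 * P⁻¹)⁻¹) * P := by group
      _ = P⁻¹ * y * (xg X.cert (top D) z * P) := by rw [ez]; group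
      _ = _ := by
        have hc := (xprod_top X hB hA ds ts hd z).eq
        rw [← hP] at hc
        rw [← hc]; group
  rw [zc_mul X hB hA hs h1 hy2 (inv_mem hy), zc_inv X hB hA hs h1 hy, h2, hz, e, List.map_cons,
    List.sum_cons, List.tail_cons, if_pos h1, hev, Int.cast_one, one_mul, one_mul]
  ring

omit hB hA
end Cfsg.Lib.Chev.TwMax
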