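import Mathlib
import Cfsg.Agent.Lib.Chev.TwMax.Coord

/-!
Elements of positive level in an overgroup of the subfield points without new short root elements are points.
-/

set_option autoImplicit false
set_option linter.unusedSectionVars false
set_option linter.unusedVariables false

namespace Cfsg.Lib.Chev.TwMax

open Cfsg.Lie Cfsg.Lib.Chev.Ovg

variable {D : ChevalleyDatum} {T : Tbl} {F : Type*} [Field F] (X : TwCtx D T F) {L : ℕ}
  (hB : Ovg.chkBase T L = true) {W : List (List ℕ)} (hA : chkAll T X.sym X.tw X.deg W = true)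

theorem map_orbEl : ∀ (l : List ℕ) (v : F),
    Matrix.GeneralLinearGroup.map X.frob (orbEl X.cert X.frob l v) = orbEl X.cert X.frob l (X.frob v)
  | [], v => map_one _
  | r :: l, v => by
    show Matrix.GeneralLinearGroup.map X.frob (_ * _) = _ * _
    rw [map_mul, map_xg, map_orbEl l (X.frob v)]

theorem nn_pts (J : Fin X.tw.norb) : X.nn J (1 : F) ∈ pts X := by
  refine (mem_pts X).2 ⟨X.nn_mem J (one_mem _), ?_⟩
  rw [X.nn_eq J, map_mul, map_mul, TwCtx.el, TwCtx.eln, map_orbEl, map_orbEl, map_neg, map_inv₀, map_one]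

theorem oword_pts : ∀ {l : List ℕ}, (∀ J ∈ l, J < X.tw.norb) → wnu X.cert F (X.tw.oword l) ∈ pts X
  | [], _ => by simp [TwData.oword, wnu]
  | J :: l, h => by
    have hJ : J < X.tw.norb := h J (List.mem_cons_self ..)
    rw [show X.tw.oword (J :: l) = X.tw.lw J ++ X.tw.oword l by simp [TwData.oword], wnu_append,
      ← X.nn_one ⟨J, hJ⟩]
    exact mul_mem (nn_pts X ⟨J, hJ⟩) (oword_pts fun x hx => h x (List.mem_cons_of_mem _ hx))

theorem anyWord_spec {P : List ℕ → Bool} (h : anyWord X.tw W P = true) :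
    ∃ w, IsWord D w ∧ TwInv D T X.tw w ∧ wnu X.cert F w ∈ pts X ∧ P w = true := by
  simp only [anyWord, List.any_eq_true, Bool.and_eq_true, List.all_eq_true, Nat.blt_eq] at h
  obtain ⟨l, -, hl, hP⟩ := h
  obtain ⟨h1, h2⟩ := X.comb.oword_spec X.cert hl
  exact ⟨_, h1, h2, oword_pts X hl, hP⟩

include hB hA

theorem trans_facts : 0 < X.tw.norb ∧ (X.tw.base 0).length = X.deg ∧ ∀ J < X.tw.norb, (X.tw.orb J).length = 1 ∨
    ∃ w, IsWord D w ∧ wnu X.cert F w ∈ pts X ∧ (∀ r ∈ X.tw.base 0, wperm T w r ∈ X.tw.base J) ∧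
      (X.tw.base J).length = (X.tw.base 0).length := by
  have h : chkTrans T X.tw X.deg W = true := by
    simp only [chkAll, Bool.and_eq_true] at hA; exact hA.2.2.2.2.2.2
  simp only [chkTrans, Bool.and_eq_true, Nat.blt_eq, Nat.beq_eq, allBelow_iff, Bool.or_eq_true] at h
  obtain ⟨h1, h2, h3⟩ := h
  refine ⟨h1, h2, fun J hJ => (h3 J hJ).imp id fun h => ?_⟩
  obtain ⟨w, hw, -, hwp, hP⟩ := anyWord_spec X h
  simp only [Bool.and_eq_true, List.all_eq_true, List.mem_map, forall_exists_index, and_imp,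
    forall_apply_eq_imp_iff₂, Nat.beq_eq, mem', List.any_eq_true, exists_eq_right'] at hP
  exact ⟨w, hw, hwp, hP.1, hP.2⟩

omit hB hA in
/-- The first orbit. -/
abbrev orb0 (h : 0 < X.tw.norb) : Fin X.tw.norb := ⟨0, h⟩

theorem sub_zero_univ (v : F) : v ∈ X.sub 0 := by
  obtain ⟨h0, hlen, -⟩ := trans_facts X hB hA
  rw [X.mem_sub]
  have : X.len 0 = X.deg := by
    rw [← hlen, X.simply.base_eq 0 h0, List.length_map]; rfl
  rw [this]
  exact X.deg_per v

theorem el0_grp (v : F) : X.el 0 v ∈ X.grp :=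
  X.el_mem (orb0 X (trans_facts X hB hA).1) (sub_zero_univ X hB hA v)

theorem el0_pts {v : F} (hv : X.frob v = v) : X.el 0 v ∈ pts X :=
  (mem_pts X).2 ⟨el0_grp X hB hA v, by rw [TwCtx.el, map_orbEl, hv]⟩

theorem frob_surj (i : ℕ) : Function.Surjective (X.frob^[i]) := by
  haveI := X.finite
  exact (Finite.injective_iff_surjective.1 X.frob.injective).iterate i

theorem iter_fix {i : ℕ} {c v z : F} (hc : c * c = 1) (h : c * X.frob^[i] v = z) (hz : X.frob z = z) :
    X.frob v = v := by
  rw [← h, map_mul, sq_one_fixed X.cert X.frob hc] at hz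
  have := mul_left_cancel₀ (sq_one_ne X.cert hc) hz
  rw [← Function.iterate_succ_apply' X.frob, Function.iterate_succ_apply] at this
  exact (X.frob.injective.iterate i) this

theorem orb_coord {w : List ℕ} (hw : IsWord D w) {s : ℕ} (hs : s < D.nroots) (h1 : pr T s = 1) :
    ∀ l : List ℕ, (∀ r ∈ l, r < D.nroots ∧ 1 ≤ pr T (wperm T w r)) → l.Nodup →
      (∀ v : F, wnu X.cert F w * orbEl X.cert X.frob l v * (wnu X.cert F w)⁻¹ ∈ qup X.cert F 0 ∧
        (par T s ∉ l.map (wperm T w) →
          zc X s (wnu X.cert F w * orbEl X.cert X.frob l v * (wnu X.cert F w)⁻¹) = 0)) ∧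
      ∀ (i : ℕ) (hi : i < l.length), wperm T w l[i] = par T s → ∃ c : F, c * c = 1 ∧ ∀ v : F,
        zc X s (wnu X.cert F w * orbEl X.cert X.frob l v * (wnu X.cert F w)⁻¹) = c * X.frob^[i] v := by
  intro l
  induction l with
  | nil =>
    intro _ _
    refine ⟨fun v => ?_, fun i hi => absurd hi (Nat.not_lt_zero _)⟩
    simp [orbEl, zc_one X hB hA hs h1]
  | cons r l ih =>
    intro hl hnd
    obtain ⟨hr, hr1⟩ := hl r (List.mem_cons_self ..)
    have hwr := wperm_lt X.cert hw hr
    obtain ⟨ih1, ih2⟩ := ih (fun x hx => hl x (List.mem_cons_of_mem _ hx)) (List.nodup_cons.1 hnd).2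
    obtain ⟨c0, hc0, hct⟩ := wnu_conj_xg X.cert (F := F) hw hr
    have hx : ∀ v : F, xg X.cert (wperm T w r) (c0 * v) ∈ qup X.cert F 0 := fun v =>
      xg_mem_qup X.cert hwr hr1 (Nat.zero_le _) _
    have e : ∀ v : F, wnu X.cert F w * orbEl X.cert X.frob (r :: l) v * (wnu X.cert F w)⁻¹ =
        xg X.cert (wperm T w r) (c0 * v) *
          (wnu X.cert F w * orbEl X.cert X.frob l (X.frob v) * (wnu X.cert F w)⁻¹) := fun v => by
      rw [← hct v, orbEl]; group
    have hsum : ∀ v : F, zc X s (wnu X.cert F w * orbEl X.cert X.frob (r :: l) v * (wnu X.cert F w)⁻¹) =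
        zc X s (xg X.cert (wperm T w r) (c0 * v)) +
          zc X s (wnu X.cert F w * orbEl X.cert X.frob l (X.frob v) * (wnu X.cert F w)⁻¹) := fun v => by
      rw [e, zc_mul X hB hA hs h1 (hx v) (ih1 _).1]
    refine ⟨fun v => ⟨e v ▸ mul_mem (hx v) (ih1 _).1, fun hn => ?_⟩, fun i hi hip => ?_⟩
    · rw [List.map_cons, List.mem_cons, not_or] at hn
      rw [hsum, zc_root X hB hA hs h1 hwr hr1 (Ne.symm hn.1), (ih1 _).2 hn.2, add_zero]
    · cases i with
      | zero =>
        have hip' : wperm T w r = par T s := hip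
        obtain ⟨κ, hκ, ek⟩ := zc_par X hB hA hs h1
        have hn : par T s ∉ l.map (wperm T w) := by
          rw [← hip']
          intro hm
          obtain ⟨x, hx', ex⟩ := List.mem_map.1 hm
          have h2 := congrArg (wperm T w.reverse) ex
          rw [wperm_reverse X.cert hw (hl x (List.mem_cons_of_mem _ hx')).1, wperm_reverse X.cert hw hr] at h2
          exact (List.nodup_cons.1 hnd).1 (h2 ▸ hx')
        refine ⟨κ * c0, by linear_combination (c0 * c0) * hκ + hc0, fun v => ?_⟩
        rw [hsum, (ih1 _).2 hn, hip', ek, add_zero, Function.iterate_zero_apply, mul_assoc]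
      | succ i =>
        obtain ⟨c, hc, ec⟩ := ih2 i (by simpa using hi) hip
        refine ⟨c, hc, fun v => ?_⟩
        have hne : wperm T w r ≠ par T s := fun e' => by
          have h2 := congrArg (wperm T w.reverse) (e'.trans hip.symm)
          rw [wperm_reverse X.cert hw hr, wperm_reverse X.cert hw
            (hl _ (List.getElem_mem hi)).1] at h2
          exact (List.nodup_cons.1 hnd).1 (by
            rw [h2]; exact List.getElem_mem _)
        rw [hsum, zc_root X hB hA hs h1 hwr hr1 hne, zero_add, ec, Function.iterate_succ_apply]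

/-- The elements carried by the orbit of a moved coordinate. -/
theorem short_fam {a : ℕ} (ha : a < D.nroots) (h1 : pr T a = 1) (hf : isFix X.sym a = false) :
    ∃ n ∈ pts X, ∃ i, ∃ c : F, c * c = 1 ∧ ∀ v : F, n * X.el 0 v * n⁻¹ ∈ qup X.cert F 0 ∧
      zc X a (n * X.el 0 v * n⁻¹) = c * X.frob^[i] v ∧
      ∀ b < D.nroots, pr T b = 1 → mem' (orb3 X.sym a) b = false → zc X b (n * X.el 0 v * n⁻¹) = 0 := by
  have h : chkFam T X.sym X.tw W = true := by
    simp only [chkAll, Bool.and_eq_true] at hA; exact hA.2.1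
  simp only [chkFam, allBelow_iff, X.cert.spec.shape.nroots_eq, Bool.or_eq_true] at h
  have h' := (h a ha).resolve_left (by simp [lv1, h1])
  rw [hf, cond_false] at h'
  obtain ⟨w, hw, -, hwp, hP⟩ := anyWord_spec X h'
  simp only [Bool.and_eq_true, List.all_eq_true, decide_eq_true_eq, allBelow_iff, Bool.or_eq_true,
    Bool.not_eq_true'] at hP
  obtain ⟨hmem, him, hb⟩ := hP
  simp only [mem', List.any_eq_true, Nat.beq_eq, exists_eq_right'] at hmem
  obtain ⟨r, hr, er⟩ := List.mem_map.1 hmem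
  obtain ⟨i, hi, rfl⟩ := List.getElem_of_mem hr
  obtain ⟨h0, -, -⟩ := trans_facts X hB hA
  have hl : ∀ r ∈ X.tw.base 0, r < D.nroots ∧ 1 ≤ pr T (wperm T w r) := fun r hr =>
    ⟨X.comb.base_lt 0 h0 r hr, him _ (List.mem_map_of_mem hr)⟩
  have hnd := X.comb.base_nodup 0 h0
  obtain ⟨o1, o2⟩ := orb_coord X hB hA hw ha h1 _ hl hnd
  obtain ⟨c, hc, ec⟩ := o2 i hi er
  refine ⟨_, hwp, i, c, hc, fun v => ⟨(o1 v).1, ec v, fun b hb' hb1 hnm => ?_⟩⟩
  refine ((orb_coord X hB hA hw hb' hb1 _ hl hnd).1 v).2 fun hm => ?_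
  have := ((hb b hb').resolve_left (by simp [lv1, hb1])).resolve_left (by
    rw [mem', Bool.eq_false_iff, Ne, not_not, List.any_eq_true]
    exact ⟨_, hm, by simp⟩)
  rw [hnm] at this
  exact Bool.noConfusion this

/-- The elements carried by a fixed coordinate. -/
theorem long_fam {a : ℕ} (ha : a < D.nroots) (h1 : pr T a = 1) (hf : isFix X.sym a = true) :
    isFix X.sym (par T a) = true ∧ ∀ b < D.nroots, pr T b = 1 → mem' (orb3 X.sym a) b = false →
      par T b ≠ par T a := by
  have h : chkFam T X.sym X.tw W = true := by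
    simp only [chkAll, Bool.and_eq_true] at hA; exact hA.2.1
  simp only [chkFam, allBelow_iff, X.cert.spec.shape.nroots_eq, Bool.or_eq_true] at h
  have h' := (h a ha).resolve_left (by simp [lv1, h1])
  rw [hf, cond_true] at h'
  simp only [Bool.and_eq_true, allBelow_iff, X.cert.spec.shape.nroots_eq, Bool.or_eq_true,
    Bool.not_eq_true'] at h'
  refine ⟨h'.1, fun b hb hb1 hn e => ?_⟩
  have := ((h'.2 b hb).resolve_left (by simp [lv1, hb1])).resolve_left (by rw [e]; simp)
  rw [hn] at this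
  exact Bool.noConfusion this

/-- A point with a prescribed fixed coordinate, supported by one orbit. -/
theorem exists_pts_coord {a : ℕ} (ha : a < D.nroots) (h1 : pr T a = 1) {z : F} (hz : X.frob z = z) :
    ∃ m ∈ pts X, m ∈ qup X.cert F 0 ∧ zc X a m = z ∧
      ∀ b < D.nroots, pr T b = 1 → mem' (orb3 X.sym a) b = false → zc X b m = 0 := by
  cases hf : isFix X.sym a
  · obtain ⟨n, hn, i, c, hc, hP⟩ := short_fam X hB hA ha h1 hf
    obtain ⟨v, hv⟩ := frob_surj X hB hA i (c * z)
    have e : c * X.frob^[i] v = z := by rw [hv, ← mul_assoc, hc, one_mul]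
    refine ⟨_, ?_, (hP v).1, (hP v).2.1.trans e, (hP v).2.2⟩
    exact mul_mem (mul_mem hn (el0_pts X hB hA (iter_fix X hB hA hc e hz))) (inv_mem hn)
  · obtain ⟨hp, hne⟩ := long_fam X hB hA ha h1 hf
    obtain ⟨-, hpl, hp1, -⟩ := (coord_facts X hB hA a ha).2.2.1 h1
    obtain ⟨κ, hκ, ek⟩ := zc_par X hB hA ha h1
    refine ⟨xg X.cert (par T a) (κ * z), xg_pts X hB hA hpl hp
      (by rw [map_mul, sq_one_fixed X.cert X.frob hκ, hz]),
      xg_mem_qup X.cert hpl hp1.ge (Nat.zero_le _) _, by rw [ek, ← mul_assoc, hκ, one_mul],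
      fun b hb hb1 hn => zc_root X hB hA hb hb1 hpl hp1.ge (Ne.symm (hne b hb hb1 hn)) _⟩

/-- An element with fixed coordinates is a point. -/
theorem pts_of_fixed_coord {y : GL D.Idx F} (hg : y ∈ X.grp) (hy : y ∈ qup X.cert F 0)
    (h : ∀ b < D.nroots, pr T b = 1 → X.frob (zc X b y) = zc X b y) : y ∈ pts X := by
  suffices key : ∀ (l : List ℕ) (y : GL D.Idx F), y ∈ X.grp → y ∈ qup X.cert F 0 →
      (∀ b < D.nroots, pr T b = 1 → X.frob (zc X b y) = zc X b y) →
      (∀ b < D.nroots, pr T b = 1 → b ∉ l → zc X b y = 0) → y ∈ pts X from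
    key (List.range D.nroots) y hg hy h fun b hb _ hn => absurd (List.mem_range.2 hb) hn
  intro l
  induction l with
  | nil =>
    intro y hg hy _ h0
    obtain ⟨c, rfl⟩ := qup_zero X hB hA hy fun s hs h1 => h0 s hs h1 List.not_mem_nil
    obtain ⟨hθ, -⟩ := top_fix X hB hA
    have hf : isFix X.sym (top D) = true := by simp [isFix, hθ]
    exact xg_pts X hB hA (top_lt X hB hA) hf ((xg_grp_iff X hB hA (top_lt X hB hA) hf c).1 hg)
  | cons a l ih =>
    intro y hg hy hfix h0
    by_cases ha : a < D.nroots ∧ pr T a = 1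
    swap
    · refine ih y hg hy hfix fun b hb hb1 hn => h0 b hb hb1 ?_
      rintro (_ | ⟨_, hm⟩)
      · exact ha ⟨hb, hb1⟩
      · exact hn hm
    obtain ⟨ha, ha1⟩ := ha
    obtain ⟨m, hm, hmq, hma, hm0⟩ := exists_pts_coord X hB hA ha ha1 (hfix a ha ha1)
    have hy2 := mul_mem (inv_mem hmq) hy
    have hg2 : m⁻¹ * y ∈ X.grp := mul_mem (inv_mem hm.1) hg
    have hd : ∀ b < D.nroots, pr T b = 1 → zc X b (m⁻¹ * y) = zc X b y - zc X b m := fun b hb hb1 =>
      zc_diff X hB hA hb hb1 hmq hy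
    have := ih (m⁻¹ * y) hg2 hy2 (fun b hb hb1 => by
      rw [hd b hb hb1, map_sub, hfix b hb hb1, zc_pts X hB hA hb hb1 hmq hm]) fun b hb hb1 hn => by
      cases hmo : mem' (orb3 X.sym a) b
      · rw [hd b hb hb1, hm0 b hb hb1 hmo, sub_zero]
        refine h0 b hb hb1 ?_
        rintro (_ | ⟨_, hx⟩)
        · simp [mem', orb3] at hmo
        · exact hn hx
      · exact zc_sig_zero X hB hA ha ha1 hy2 hg2 (by rw [hd a ha ha1, hma, sub_self]) hmo
    simpa using mul_mem hm this

variable {H : Subgroup (GL D.Idx F)} (hM : pts X ≤ H) (hH : H ≤ X.grp)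
  (hS : ∀ v : F, X.el 0 v ∈ H → X.frob v = v)
include hM hH hS

/-- A coordinate is fixed if all others off its orbit are. -/
theorem fixed_of_rest {y : GL D.Idx F} (hyH : y ∈ H) (hy : y ∈ qup X.cert F 0) {s : ℕ} (hs : s < D.nroots)
    (h1 : pr T s = 1)
    (h : ∀ b < D.nroots, pr T b = 1 → mem' (orb3 X.sym s) b = false → X.frob (zc X b y) = zc X b y) :
    X.frob (zc X s y) = zc X s y := by
  cases hf : isFix X.sym s
  swap
  · exact fix_zc X hB hA hs h1 hf hy (hH hyH)
  obtain ⟨n, hn, i, c, hc, hP⟩ := short_fam X hB hA hs h1 hf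
  obtain ⟨v, hv⟩ := frob_surj X hB hA i (c * zc X s y)
  obtain ⟨hPq, hPs, hP0⟩ := hP v
  rw [hv, ← mul_assoc, hc, one_mul] at hPs
  set P := n * X.el 0 v * n⁻¹ with hPdef
  have hPg : P ∈ X.grp := mul_mem (mul_mem hn.1 (el0_grp X hB hA v)) (inv_mem hn.1)
  have hq2 := mul_mem (inv_mem hPq) hy
  have hg2 : P⁻¹ * y ∈ X.grp := mul_mem (inv_mem hPg) (hH hyH)
  have hm : P⁻¹ * y ∈ pts X := pts_of_fixed_coord X hB hA hg2 hq2 fun b hb hb1 => by
    cases hmo : mem' (orb3 X.sym s) b
    · rw [zc_diff X hB hA hb hb1 hPq hy, hP0 b hb hb1 hmo, sub_zero]; exact h b hb hb1 hmo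
    · rw [zc_sig_zero X hB hA hs h1 hq2 hg2 (by rw [zc_diff X hB hA hs h1 hPq hy, hPs, sub_self]) hmo, map_zero]
  have hPH : P ∈ H := by
    have := mul_mem hyH (inv_mem (hM hm))
    simpa using this
  have hel : X.el 0 v ∈ H := by
    have := mul_mem (mul_mem (inv_mem (hM hn)) hPH) (hM hn)
    simpa [hPdef, mul_assoc] using this
  have hvf := hS v hel
  have e : X.frob^[i] v = v := Function.iterate_fixed hvf i
  rw [e] at hv
  rw [show zc X s y = c * v by rw [hv, ← mul_assoc, hc, one_mul], map_mul, sq_one_fixed X.cert X.frob hc, hvf]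

/-- An element of positive level is a point. -/
theorem qup_pts {y : GL D.Idx F} (hyH : y ∈ H) (hy : y ∈ qup X.cert F 0) : y ∈ pts X := by
  refine pts_of_fixed_coord X hB hA (hH hyH) hy fun a ha ha1 => ?_
  cases hfa : isFix X.sym a
  swap
  · exact fix_zc X hB hA ha ha1 hfa hy (hH hyH)
  have h : chkOps T X.sym X.tw X.deg = true := by
    simp only [chkAll, Bool.and_eq_true] at hA; exact hA.2.2.1
  simp only [chkOps, allBelow_iff, X.cert.spec.shape.nroots_eq, Bool.or_eq_true] at h
  obtain ⟨op, hop, h'⟩ := exists_of_anyBelow (((h a ha).resolve_left (by simp [lv1, ha1])).resolve_left (by simp [hfa]))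
  simp only [Bool.and_eq_true, List.all_eq_true, decide_eq_true_eq] at h'
  obtain ⟨hopf, hop0, h'⟩ := h'
  obtain ⟨s, hs, h'⟩ := exists_of_anyBelow h'
  simp only [Bool.and_eq_true, allBelow_iff, lv1, decide_eq_true_eq] at h'
  obtain ⟨hs1, hdet, hrest⟩ := h'
  obtain ⟨h0, hlen0, -⟩ := trans_facts X hB hA
  have hds : ∀ d ∈ opList T X.tw op, d < D.nroots ∧ pr T d = 0 := fun d hd => by
    refine ⟨?_, hop0 d hd⟩
    unfold opList at hd
    cases hlt : Nat.blt op T.nroots
    · rw [hlt, cond_false] at hd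
      cases heq : Nat.beq op T.nroots
      · rw [heq, cond_false] at hd
        obtain ⟨r, hr, rfl⟩ := List.mem_map.1 hd
        exact X.cert.spec.neg_lt r (X.comb.base_lt 0 h0 r hr)
      · rw [heq, cond_true] at hd
        exact X.comb.base_lt 0 h0 d hd
    · rw [hlt, cond_true, List.mem_singleton] at hd
      subst hd
      rw [Nat.blt_eq, X.cert.spec.shape.nroots_eq] at hlt
      exact hlt
  set ts : List F := List.replicate (opList T X.tw op).length 1 with hts
  have hxo : ∀ l : List ℕ, xprod X l (List.replicate l.length (1 : F)) = orbEl X.cert X.frob l 1 := by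
    intro l
    induction l with
    | nil => rfl
    | cons r l ih =>
      show xg X.cert r 1 * xprod X l (List.replicate l.length 1) = xg X.cert r 1 * orbEl X.cert X.frob l (X.frob 1)
      rw [map_one, ih]
  set Q := xprod X (opList T X.tw op) ts with hQ
  have hQp : Q ∈ pts X := by
    rw [hQ, hts]
    unfold opList
    cases hlt : Nat.blt op T.nroots
    · rw [cond_false]
      cases heq : Nat.beq op T.nroots
      · rw [cond_false, hxo]
        exact (mem_pts X).2 ⟨X.eln_mem (orb0 X h0) (one_mem _), by rw [map_orbEl, map_one]⟩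
      · rw [cond_true, hxo]
        exact el0_pts X hB hA (map_one _)
    · rw [cond_true]
      have hf' : isFix X.sym op = true := by
        rw [Bool.or_eq_true, Bool.not_eq_true'] at hopf
        refine hopf.resolve_left fun h => ?_
        rw [X.cert.spec.shape.nroots_eq, h] at hlt; exact Bool.noConfusion hlt
      have hl : op < D.nroots := by rw [Nat.blt_eq, X.cert.spec.shape.nroots_eq] at hlt; exact hlt
      simpa [xprod] using xg_pts X hB hA hl hf' (map_one X.frob)
  have hev : ∀ es : List ℕ, ev ts es = (1 : F) := by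
    intro es
    rw [hts]
    generalize (opList T X.tw op).length = k
    induction es generalizing k with
    | nil => cases k <;> simp [ev, List.replicate]
    | cons e es ih => cases k <;> simp [ev, List.replicate, ih]
  have hnorm : ∀ (ds : List ℕ) (us : List F), (∀ d ∈ ds, d < D.nroots ∧ pr T d = 0) → ∀ {x : GL D.Idx F},
      x ∈ qup X.cert F 0 → (xprod X ds us)⁻¹ * x * xprod X ds us ∈ qup X.cert F 0 := by
    intro ds
    induction ds with
    | nil => intro us _ x hx; simpa [xprod] using hx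
    | cons d ds ih =>
      intro us hd x hx
      cases us with
      | nil => simpa [xprod] using hx
      | cons t us =>
        have h2 := zero_conj_qup X hB hA (hd d (List.mem_cons_self ..)).1 (hd d (List.mem_cons_self ..)).2 (-t) hx
        rw [← xg_inv, inv_inv] at h2
        have := ih us (fun e he => hd e (List.mem_cons_of_mem _ he)) h2
        simpa [xprod, mul_assoc] using this
  have hy' : Q⁻¹ * y * Q * y⁻¹ ∈ qup X.cert F 0 := mul_mem (hnorm _ _ hds hy) (inv_mem hy)
  have hy'H : Q⁻¹ * y * Q * y⁻¹ ∈ H :=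
    mul_mem (mul_mem (mul_mem (inv_mem (hM hQp)) hyH) (hM hQp)) (inv_mem hyH)
  have hmem : ∀ {b : ℕ}, b < D.nroots → pr T b = 1 → ∀ x ∈ (expand T (opList T X.tw op) b).tail,
      x.1 < D.nroots ∧ 1 ≤ pr T x.1 := fun hb hb1 x hx =>
    (expand_spec X hB hA _ ts List.length_replicate hds hb hb1).2.1 x (List.mem_of_mem_tail hx)
  let val : ETerm → F := fun x => (x.2.1 : F) * ev ts x.2.2 * (if pr T x.1 = 1 then zc X x.1 y else 0)
  have hval : ∀ x : ETerm, x.1 < D.nroots → isFix X.sym x.1 = true → X.frob (val x) = val x := by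
    intro x hx hfx
    by_cases hp : pr T x.1 = 1
    · simp only [val, if_pos hp, hev, mul_one, map_mul, map_intCast, fix_zc X hB hA hx hp hfx hy (hH hyH)]
    · simp only [val, if_neg hp, mul_zero, map_zero]
  have split : ∀ l : List ETerm, (∀ x ∈ l, x.1 < D.nroots) → ∃ r : F, X.frob r = r ∧
      (l.map val).sum = r + ((l.filter fun x => !isFix X.sym x.1).map val).sum := by
    intro l
    induction l with
    | nil => exact fun _ => ⟨0, map_zero _, by simp⟩
    | cons x l ih =>
      intro hl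
      obtain ⟨r, hr, e⟩ := ih fun z hz => hl z (List.mem_cons_of_mem _ hz)
      cases hfx : isFix X.sym x.1
      · refine ⟨r, hr, ?_⟩
        rw [List.filter_cons_of_pos (by simp [hfx]), List.map_cons, List.sum_cons, List.map_cons, List.sum_cons, e]
        ring
      · refine ⟨val x + r, by rw [map_add, hr, hval x (hl x (List.mem_cons_self ..)) hfx], ?_⟩
        rw [List.filter_cons_of_neg (by simp [hfx]), List.map_cons, List.sum_cons, e]
        ring
  have hzc : ∀ b, b < D.nroots → pr T b = 1 → ∃ r : F, X.frob r = r ∧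
      zc X b (Q⁻¹ * y * Q * y⁻¹) = r + ((shortTail T X.sym (opList T X.tw op) b).map val).sum := fun b hb hb1 => by
    obtain ⟨r, hr, e⟩ := split _ fun x hx => (hmem hb hb1 x hx).1
    exact ⟨r, hr, (zc_conj X hB hA List.length_replicate hds hy hy' hb hb1).trans e⟩
  have hsfix := fixed_of_rest X hB hA hM hH hS hy'H hy' hs hs1 fun b hb hb1 hmo => by
    cases hfb : isFix X.sym b
    swap
    · exact fix_zc X hB hA hb hb1 hfb hy' (hH hy'H)
    obtain ⟨r, hr, e⟩ := hzc b hb hb1
    have h2 := hrest b hb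
    simp only [hb1, decide_true, Bool.not_true, Bool.false_or, hfb, hmo, List.isEmpty_iff] at h2
    rw [e, h2, List.map_nil, List.sum_nil, add_zero, hr]
  obtain ⟨r, hr, e⟩ := hzc s hs hs1
  have hmems : ∀ x ∈ shortTail T X.sym (opList T X.tw op) s, x.1 < D.nroots ∧ pr T x.1 = 1 ∧
      val x = (x.2.1 : F) * zc X x.1 y := fun x hx => by
    obtain ⟨hx1, hx2⟩ := List.mem_filter.1 hx
    obtain ⟨hxl, hxp⟩ := hmem hs hs1 x hx1
    have hp : pr T x.1 = 1 := by
      obtain ⟨-, h2, h3, -⟩ := (base X.cert X.full hB x.1 hxl).1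
      by_contra hne
      have e' := h3 (by omega)
      simp only [Bool.not_eq_true', isFix, ← Bool.not_eq_true, Nat.beq_eq] at hx2
      exact hx2 (e' ▸ (top_fix X hB hA).1)
    exact ⟨hxl, hp, by simp only [val, if_pos hp, hev, mul_one]⟩
  rw [e, map_add, hr, add_right_inj] at hsfix
  revert hsfix hdet hmems
  generalize shortTail T X.sym (opList T X.tw op) s = Lt
  intro hdet hsfix hmems
  have pair : ∀ x z : ETerm, x.1 < D.nroots → pr T x.1 = 1 → X.deg = 3 → X.sym.root x.1 = z.1 →
      z.2.1 * X.sym.eps x.1 = x.2.1 → sgnB x.2.1 = true →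
      X.frob ((x.2.1 : F) * zc X x.1 y + (z.2.1 : F) * zc X z.1 y) =
        (x.2.1 : F) * zc X x.1 y + (z.2.1 : F) * zc X z.1 y → X.frob (zc X x.1 y) = zc X x.1 y := by
    intro x z hx hx1 hdeg hρ he hsg hfix
    set u := zc X x.1 y with hu
    have ez : zc X z.1 y = (X.sym.eps x.1 : F) * X.frob u := by rw [← hρ]; exact zc_sig X hB hA hx hx1 hy (hH hyH)
    have hx0 : (x.2.1 : F) ≠ 0 := sq_one_ne X.cert (sgnB_sq hsg)
    have he' : (z.2.1 : F) * (X.sym.eps x.1 : F) = (x.2.1 : F) := by rw [← Int.cast_mul, he]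
    rw [ez, ← mul_assoc, he', ← mul_add, map_mul, map_intCast] at hfix
    have h2 : X.frob u + X.frob (X.frob u) = u + X.frob u := by
      have := mul_left_cancel₀ hx0 hfix
      rwa [map_add] at this
    have h3 : X.frob (X.frob u) = u := by linear_combination h2
    have h4 : X.frob^[3] u = u := hdeg ▸ X.deg_per u
    simp only [Function.iterate_succ_apply', Function.iterate_zero_apply] at h4
    rw [h3] at h4
    exact h4
  match Lt, hdet, hmems, hsfix with
  | [x], hdet, hmems, hsfix =>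
    simp only [determines, Bool.and_eq_true, Nat.beq_eq] at hdet
    obtain ⟨-, -, ev'⟩ := hmems x (List.mem_singleton_self x)
    simp only [List.map_cons, List.map_nil, List.sum_cons, List.sum_nil, add_zero, ev', map_mul, map_intCast] at hsfix
    rw [← hdet.2]
    exact mul_left_cancel₀ (sq_one_ne X.cert (sgnB_sq hdet.1)) hsfix
  | [x, z], hdet, hmems, hsfix =>
    simp only [determines, Bool.and_eq_true, Bool.or_eq_true, Nat.beq_eq, decide_eq_true_eq] at hdet
    obtain ⟨hx, hx1, evx⟩ := hmems x (by simp)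
    obtain ⟨hz, hz1, evz⟩ := hmems z (by simp)
    simp only [List.map_cons, List.map_nil, List.sum_cons, List.sum_nil, add_zero, evx, evz] at hsfix
    obtain ⟨hdeg, ⟨h1, h2, h3, h4⟩ | ⟨h1, h2, h3, h4⟩⟩ := hdet
    · rw [← h4]; exact pair x z hx hx1 hdeg h1 h2 h3 hsfix
    · rw [← h4]; exact pair z x hz hz1 hdeg h1 h2 h3 (by rw [add_comm]; exact hsfix)
  | [], hdet, _, _ => exact absurd hdet Bool.false_ne_true
  | _ :: _ :: _ :: _, hdet, _, _ => exact absurd hdet Bool.false_ne_true

end Cfsg.Lib.Chev.TwMax
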