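import Mathlib
import Cfsg.Agent.Lib.Chev.TwMax.Points

/-!
Long root elements in an overgroup of the subfield points without new short root elements are points.
-/

set_option autoImplicit false
set_option linter.unusedSectionVars false
set_option linter.unusedVariables false

namespace Cfsg.Lib.Chev.TwMax

open Cfsg.Lie Cfsg.Lib.Chev.Ovg

variable {D : ChevalleyDatum} {T : Tbl} {F : Type*} [Field F] (X : TwCtx D T F) {L : ℕ}
  (hB : Ovg.chkBase T L = true) {W : List (List ℕ)} (hA : chkAll T X.sym X.tw X.deg W = true)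
include hB hA

theorem sign_step {w : List ℕ} (hw : IsWord D w) {k : ℕ} (hk : D.nroots ≤ 2 * k) (hkn : k < D.nroots) {t : F}
    {b : GL D.Idx F} (hb : b ∈ upper X.cert F (k + 1))
    (h : wnu X.cert F w * (xg X.cert k t * b) * (wnu X.cert F w)⁻¹ ∈ D.negUnipotent F)
    (hnot : ¬ 2 * wperm T w k < D.nroots) :
    xg X.cert k t * b ∈ upper X.cert F (k + 1) := by
  obtain ⟨a, ha, c, hc, rfl⟩ := upper_split X.cert X.full w (D.nroots - (k + 1)) (k := k + 1)
    (by omega) (by omega) hb
  have hxa : xg X.cert k t * a = 1 := signPart_inter X.cert X.full hw (k := k)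
    (mul_mem (xg_mem_signPart X.cert X.full le_rfl hkn (by simpa using hnot) t)
      (signPart_anti X.cert X.full w false (Nat.le_succ k) ha)) (by
    have h3 := mul_mem h (inv_mem ((signPart_conj X.cert X.full hw).1 hc))
    simpa [mul_assoc] using h3)
  rw [← mul_assoc, hxa, one_mul]
  exact signPart_le_upper X.cert X.full w true (k + 1) hc

/-- Only the identity of the moved part fixes a root group of positive level. -/
theorem stab_eq_one {w : List ℕ} (hw : IsWord D w) {δ : ℕ} (hδ : δ < D.nroots) (hδp : D.nroots ≤ 2 * δ)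
    (hinv : ∀ k < D.nroots, D.nroots ≤ 2 * k → 2 * wperm T w k < D.nroots → oneSum T k δ = true)
    {d : GL D.Idx F} (hd : d ∈ signPart X.cert X.full F w true (D.nroots / 2)) {a b₀ : F} (ha : a ≠ 0)
    (h : d * xg X.cert δ a * d⁻¹ = xg X.cert δ b₀) : d = 1 := by
  have hev := nroots_even X.cert
  have main : ∀ (m k : ℕ), D.nroots ≤ 2 * k → k + m = D.nroots → ∀ d : GL D.Idx F, d ∈ upper X.cert F k →
      wnu X.cert F w * d * (wnu X.cert F w)⁻¹ ∈ D.negUnipotent F →
      d * xg X.cert δ a * d⁻¹ = xg X.cert δ b₀ → d = 1 := by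
    intro m
    induction m with
    | zero =>
      intro k _ hkm d hd _ _
      rw [upper_top X.cert (by omega), Subgroup.mem_bot] at hd
      exact hd
    | succ m ih =>
      intro k hk hkm d hd hneg he
      have hkn : k < D.nroots := by omega
      obtain ⟨t, b, hb, rfl⟩ := (upper_step X.cert X.full.comm hk).1 hd
      suffices hmem : xg X.cert k t * b ∈ upper X.cert F (k + 1) from
        ih (k + 1) (by omega) (by omega) _ hmem hneg he
      by_cases hkw : 2 * wperm T w k < D.nroots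
      swap
      · exact sign_step X hB hA hw hk hkn hb hneg hkw
      have hone := hinv k hkn hk hkw
      simp only [oneSum] at hone
      obtain ⟨κ, hκ, hc⟩ := comm_oneRoot X.cert (F := F) X.full hkn hδ hone
      have hone' := hone
      simp only [oneRoot, Bool.and_eq_true] at hone'
      obtain ⟨-, hm⟩ := hone'
      cases hT : tTerms T k δ with
      | nil => rw [hT] at hm; simp at hm
      | cons x l =>
      cases l with
      | cons x' l' => rw [hT] at hm; simp at hm
      | nil =>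
      rw [hT] at hm
      simp only [List.head?_cons, Option.map_some, Option.getD_some, Bool.and_eq_true, unit1, Nat.beq_eq] at hm
      obtain ⟨-, -, hi, hj⟩ := hm
      simp only [hT, List.head?_cons, Option.map_some, Option.getD_some] at hc
      obtain ⟨hjn, -, -, -, hf⟩ := pr_term X.cert X.full hB hkn hδ (c := x) (by rw [hT]; simp)
      set j := x.1 with hjdef
      rw [hi, hj, Nat.cast_one, one_mul, one_mul] at hf
      have fk := fun'_pos X.cert hkn hk
      have fδ := fun'_pos X.cert hδ hδp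
      have hjk : k < j := (fun'_lt_iff X.cert hkn hjn).1 (by omega)
      have hjδ : δ < j := (fun'_lt_iff X.cert hδ hjn).1 (by omega)
      have hjp : D.nroots ≤ 2 * j := by omega
      have hnorm : ∀ {u : GL D.Idx F}, u ∈ D.posUnipotent F → ∀ g ∈ upper X.cert F (j + 1),
          u * g * u⁻¹ ∈ upper X.cert F (j + 1) := fun {u} hu g hg => by
        simpa using (upper_central X.cert X.full.comm hjp hjn (inv_mem hu)).1 g hg
      have hup : ∀ {u : GL D.Idx F}, u ∈ upper X.cert F (k + 1) → u ∈ D.posUnipotent F := fun hu =>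
        (posUnipotent_eq X.cert (F := F)).symm ▸ upper_anti X.cert (by omega) hu
      have hcomm : ∀ u ∈ upper X.cert F (k + 1),
          (xg X.cert δ a)⁻¹ * u * xg X.cert δ a * u⁻¹ ∈ upper X.cert F (j + 1) := by
        have hδP := xg_mem_pos X.cert (F := F) hδ hδp
        intro u hu
        induction hu using Subgroup.closure_induction with
        | mem g hg =>
          obtain ⟨r, s, hkr, hrn, rfl⟩ := hg
          by_cases hrd : δ = r
          · subst hrd
            rw [xg_inv, xg_inv, xg_add, xg_add, xg_add]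
            rw [show -a + s + a + -s = 0 by ring, xg_zero]
            exact one_mem _
          · have e := conj_prod X.cert (F := F) X.full hrn hδ (by
              simp only [nc, Bool.and_eq_true, Bool.not_eq_true', ← Bool.not_eq_true, Nat.beq_eq]
              exact ⟨hrd, fun e' => by rw [X.cert.neg_eq hrn] at e'; omega⟩) s a
            rw [show (xg X.cert δ a)⁻¹ * xg X.cert r s * xg X.cert δ a * (xg X.cert r s)⁻¹ =
              (xg X.cert δ a)⁻¹ * (xg X.cert r s * xg X.cert δ a * (xg X.cert r s)⁻¹) by group, e, inv_mul_cancel_left]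
            refine list_prod_mem fun z hz => ?_
            obtain ⟨c, hc', rfl⟩ := List.mem_map.1 hz
            obtain ⟨c1, c2, c3, -, c5⟩ := pr_term X.cert X.full hB hrn hδ hc'
            refine xg_mem_upper X.cert ?_ _
            have f2 : fun' X.cert k < fun' X.cert r := (fun'_lt_iff X.cert hkn hrn).2 (by omega)
            have : fun' X.cert j < fun' X.cert c.1 := by nlinarith
            have := (fun'_lt_iff X.cert hjn c1).1 this
            omega
        | one => simp
        | mul p q hp hq ihp ihq =>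
          have h1 := mul_mem ihp (hnorm (hup hp) _ ihq)
          have e : (xg X.cert δ a)⁻¹ * (p * q) * xg X.cert δ a * (p * q)⁻¹ =
              (xg X.cert δ a)⁻¹ * p * xg X.cert δ a * p⁻¹ *
                (p * ((xg X.cert δ a)⁻¹ * q * xg X.cert δ a * q⁻¹) * p⁻¹) := by group
          rw [e]; exact h1
        | inv p hp ihp =>
          have h1 := inv_mem (hnorm (inv_mem (hup hp)) _ ihp)
          have e : (xg X.cert δ a)⁻¹ * p⁻¹ * xg X.cert δ a * p⁻¹⁻¹ =
              (p⁻¹ * ((xg X.cert δ a)⁻¹ * p * xg X.cert δ a * p⁻¹) * p⁻¹⁻¹)⁻¹ := by group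
          rw [e]; exact h1
      set c := (xg X.cert δ a)⁻¹ * b * xg X.cert δ a * b⁻¹ with hcdef
      have hcU : c ∈ upper X.cert F (j + 1) := hcomm b hb
      set c' := xg X.cert k t * c * (xg X.cert k t)⁻¹ with hc'def
      have hc'U : c' ∈ upper X.cert F (j + 1) := hnorm (xg_mem_pos X.cert hkn hk t) _ hcU
      have he2 : xg X.cert δ a * (xg X.cert j (κ * t * a) * c') = xg X.cert δ b₀ := by
        rw [← he, ← mul_assoc, ← hc t a, hc'def, hcdef]; group
      have hmemj : xg X.cert j (κ * t * a) * c' ∈ upper X.cert F (δ + 1) :=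
        mul_mem (xg_mem_upper X.cert (by omega) _) (upper_anti X.cert (by omega) hc'U)
      obtain ⟨-, e2⟩ := upper_unique X.cert hδp hδ hmemj (one_mem _) (by rw [he2, mul_one])
      obtain ⟨e3, -⟩ := upper_unique X.cert (t := κ * t * a) (u := 0) hjp hjn hc'U (one_mem _)
        (by rw [e2, xg_zero, one_mul])
      have ht : t = 0 := by
        rcases mul_eq_zero.1 e3 with e4 | e4
        · exact (mul_eq_zero.1 e4).resolve_left (sq_one_ne X.cert hκ)
        · exact absurd e4 ha
      rw [ht, xg_zero, one_mul]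
      exact hb
  obtain ⟨h1, h2⟩ := (mem_signPart_true X.cert X.full hw (k := D.nroots / 2) (by omega) (by omega)).1 hd
  exact main (D.nroots - D.nroots / 2) _ (by omega) (by omega) d h1 h2 h

theorem map_signPart' {w : List ℕ} {g : GL D.Idx F} {k : ℕ} (hg : g ∈ signPart X.cert X.full F w true k) :
    Matrix.GeneralLinearGroup.map X.frob g ∈ signPart X.cert X.full F w true k := by
  suffices h : signPart X.cert X.full F w true k ≤
      (signPart X.cert X.full F w true k).comap (Matrix.GeneralLinearGroup.map (n := D.Idx) X.frob) from h hg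
  refine (Subgroup.closure_le _).2 ?_
  rintro y ⟨r, t, h1, h2, h3, rfl⟩
  show Matrix.GeneralLinearGroup.map X.frob (xg X.cert r t) ∈ signPart X.cert X.full F w true k
  rw [map_xg]
  exact xg_mem_signPart X.cert X.full h1 h2 h3 _

theorem sig_signPart {w : List ℕ} (hw : IsWord D w) (hn : wnu X.cert F w ∈ pts X) {c : GL D.Idx F}
    (hc : c ∈ signPart X.cert X.full F w true (D.nroots / 2)) :
    X.sig c ∈ signPart X.cert X.full F w true (D.nroots / 2) := by
  have hd : (wnu X.cert F w)⁻¹ * wnu X.cert F w ∈ D.diagonalSubgroup F := by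
    rw [inv_mul_cancel]; exact one_mem _
  rw [signPart_iff_conj X.cert X.full hw hd] at hc ⊢
  obtain ⟨hng, hns⟩ := hn.1
  refine ⟨X.ok.map_pos X.cert X.comb hc.1, ?_⟩
  have hcg := pos_le_group X.cert hc.1
  have := X.ok.map_neg X.cert X.comb hc.2
  rwa [X.ok.map_mul _ (mul_mem hng hcg) _ (inv_mem hng), X.ok.map_mul _ hng _ hcg, X.ok.map_inv X.cert hng,
    hns] at this

theorem topW_facts {δ : ℕ} (hδ : δ < D.nroots) (hf : isFix X.sym δ = true) (h1 : 1 ≤ pr T δ) :
    ∃ w, IsWord D w ∧ TwInv D T X.tw w ∧ wnu X.cert F w ∈ pts X ∧ wperm T w δ = top D ∧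
      ∀ k < D.nroots, D.nroots ≤ 2 * k → 2 * wperm T w k < D.nroots → oneSum T k δ = true := by
  have h : chkTopW T X.sym X.tw W = true := by
    simp only [chkAll, Bool.and_eq_true] at hA; exact hA.2.2.2.2.1
  simp only [chkTopW, allBelow_iff, X.cert.spec.shape.nroots_eq, Bool.or_eq_true] at h
  obtain ⟨w, hw, hwi, hwp, hP⟩ := anyWord_spec X ((h δ hδ).resolve_left (by simp [hf, h1]))
  simp only [Bool.and_eq_true, Nat.beq_eq, allBelow_iff, Bool.or_eq_true, Bool.not_eq_true', Nat.ble_eq,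
    X.cert.spec.shape.nroots_eq] at hP
  refine ⟨w, hw, hwi, hwp, hP.1, fun k hk hkp hkw => ?_⟩
  rcases hP.2 k hk with e | e | e
  · rw [← Bool.not_eq_true, Nat.ble_eq] at e; omega
  · omega
  · exact e

/-- A fixed root element of positive level is conjugate to the highest one by a point. -/
theorem low {δ : ℕ} (hδ : δ < D.nroots) (hf : isFix X.sym δ = true) (h1 : 1 ≤ pr T δ) {u : GL D.Idx F}
    (hu : u ∈ D.posUnipotent F) {ν : F} (hν : ν ≠ 0) (hp : u * xg X.cert δ ν * u⁻¹ ∈ pts X) :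
    ∃ c ∈ pts X, ∃ w, IsWord D w ∧ TwInv D T X.tw w ∧ wnu X.cert F w ∈ pts X ∧ wperm T w δ = top D ∧
      ∃ a : GL D.Idx F, u = c * a ∧ wnu X.cert F w * a * (wnu X.cert F w)⁻¹ ∈ D.posUnipotent F := by
  obtain ⟨w, hw, hwi, hwp, hwδ, hinv⟩ := topW_facts X hB hA hδ hf h1
  have hev := nroots_even X.cert
  have hδp : D.nroots ≤ 2 * δ := (base X.cert X.full hB δ hδ).1.2.2.2.2.1 h1
  have hu' : u⁻¹ ∈ upper X.cert F (D.nroots / 2) := posUnipotent_eq X.cert (F := F) ▸ inv_mem hu
  obtain ⟨a, ha, c, hc, e⟩ := upper_split X.cert X.full w (D.nroots / 2) (k := D.nroots / 2) (by omega) (by omega) hu'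
  have eu : u = c⁻¹ * a⁻¹ := by rw [← mul_inv_rev, ← e, inv_inv]
  have haU : wnu X.cert F w * a⁻¹ * (wnu X.cert F w)⁻¹ ∈ D.posUnipotent F :=
    (signPart_conj X.cert X.full hw).2 (inv_mem ha)
  obtain ⟨κ, hκ, hct⟩ := wnu_conj_xg X.cert (F := F) hw hδ
  have hac : Commute a⁻¹ (xg X.cert δ ν) := by
    have h2 := top_comm X.cert X.full (nroots_pos X hB hA) haU (κ * ν)
    rw [show D.nroots - 1 = wperm T w δ from hwδ.symm, ← hct ν] at h2
    have := h2.map (MulAut.conj (wnu X.cert F w)⁻¹).toMonoidHom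
    simpa [MulAut.conj_apply, mul_assoc] using this
  have ey : u * xg X.cert δ ν * u⁻¹ = c⁻¹ * xg X.cert δ ν * c := by
    calc _ = c⁻¹ * (a⁻¹ * xg X.cert δ ν * a⁻¹⁻¹) * c := by rw [eu]; group
      _ = _ := by rw [hac.eq, mul_inv_cancel_right]
  obtain ⟨hyg, hyf⟩ := (mem_pts X).1 hp
  rw [ey] at hyg hyf
  have hcg : c ∈ D.group F := borel_le_group X.cert (signPart_le_borel X.cert X.full w true hc)
  have key : ∀ (g : GL D.Idx F) (ν' : F), g ∈ signPart X.cert X.full F w true (D.nroots / 2) →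
      g⁻¹ * xg X.cert δ ν' * g = c⁻¹ * xg X.cert δ ν * c → ν' ≠ 0 → g = c := by
    intro g ν' hg e' hν'
    have h2 : c * g⁻¹ * xg X.cert δ ν' * (c * g⁻¹)⁻¹ = xg X.cert δ ν := by
      calc _ = c * (g⁻¹ * xg X.cert δ ν' * g) * c⁻¹ := by group
        _ = _ := by rw [e']; group
    exact (mul_inv_eq_one.1 (stab_eq_one X hB hA hw hδ hδp hinv (mul_mem hc (inv_mem hg)) hν' h2)).symm
  have hν' : X.frob ν ≠ 0 := (map_ne_zero X.frob).2 hν
  have hcf : Matrix.GeneralLinearGroup.map X.frob c = c := by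
    refine key _ _ (map_signPart' X hB hA hc) ?_ hν'
    rw [map_mul, map_mul, map_inv, map_xg] at hyf
    exact hyf
  have hcs : X.sig c = c := by
    refine key _ _ (sig_signPart X hB hA hw hwp hc) ?_ hν'
    have h2 := hyg.2
    rw [X.ok.map_mul _ (mul_mem (inv_mem hcg) (xg_mem_group X.cert δ ν)) _ hcg,
      X.ok.map_mul _ (inv_mem hcg) _ (xg_mem_group X.cert δ ν), X.ok.map_inv X.cert hcg,
      sig_fix X hB hA hδ hf] at h2
    exact h2
  exact ⟨c⁻¹, inv_mem ((mem_pts X).2 ⟨⟨hcg, hcs⟩, hcf⟩), w, hw, hwi, hwp, hwδ, a⁻¹, eu, haU⟩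

theorem wperm_fix {w : List ℕ} (hi : TwInv D T X.tw w) (hw : IsWord D w) {r : ℕ} (hr : r < D.nroots)
    (hf : isFix X.sym r = true) : isFix X.sym (wperm T w r) = true := by
  have e := hi r hr
  rw [X.simply.root_eq r hr, X.simply.root_eq _ (wperm_lt X.cert hw hr),
    show X.sym.root r = r by simpa [isFix] using hf] at e
  simp [isFix, ← e]

variable {H : Subgroup (GL D.Idx F)} (hM : pts X ≤ H) (hH : H ≤ X.grp)
  (hS : ∀ v : F, X.el 0 v ∈ H → X.frob v = v)
include hM hH hS

/-- Root elements of level at least minus one are points. -/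
theorem root_pts {g : ℕ} (hg : g < D.nroots) (hf : isFix X.sym g = true) (h : -1 ≤ pr T g) {u : GL D.Idx F}
    (hu : u ∈ D.posUnipotent F) {ν : F} (hν : ν ≠ 0) (hy : u * xg X.cert g ν * u⁻¹ ∈ H) :
    u * xg X.cert g ν * u⁻¹ ∈ pts X := by
  by_cases h1 : 1 ≤ pr T g
  · exact qup_pts X hB hA hM hH hS hy
      (conj_qup X.cert X.full hB hu (xg_mem_qup X.cert hg h1 (Nat.zero_le _) ν))
  have hG : chkGamma T X.sym = true := by
    simp only [chkAll, Bool.and_eq_true] at hA; exact hA.2.2.2.1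
  simp only [chkGamma, Bool.and_eq_true, allBelow_iff, X.cert.spec.shape.nroots_eq, Bool.or_eq_true] at hG
  obtain ⟨r, hr, h'⟩ := exists_of_anyBelow ((hG.2 g hg).resolve_left (by
    have h0 : pr T g = 0 ∨ pr T g = -1 := by omega
    rcases h0 with e | e <;> simp [hf, e]))
  simp only [Bool.and_eq_true, decide_eq_true_eq, allBelow_iff, Bool.or_eq_true, Bool.not_eq_true',
    decide_eq_false_iff_not, X.cert.spec.shape.nroots_eq] at h'
  obtain ⟨hrf, hr1, hδ', hk⟩ := h'
  obtain ⟨δ, hδ, h'⟩ := exists_of_anyBelow hδ'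
  simp only [Bool.and_eq_true, decide_eq_true_eq] at h'
  obtain ⟨hδf, hδ1, hcor, hone⟩ := h'
  obtain ⟨κ, hκ, hc⟩ := comm_oneRoot X.cert (F := F) X.full hr hg hone
  obtain ⟨v, hv, ev⟩ := conj_qup_root X.cert X.full hB (inv_mem hu) hr hr1 (1 : F)
  have hvc : Commute v (xg X.cert g ν) := by
    suffices hh : qup X.cert F (r + 1) ≤ Subgroup.centralizer {xg X.cert g ν} from
      (Subgroup.mem_centralizer_iff.1 (hh hv) _ rfl).symm
    refine (Subgroup.closure_le _).2 ?_
    rintro z ⟨k, s, hkn, hk1, hkr, rfl⟩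
    refine Subgroup.mem_centralizer_iff.2 ?_
    rintro _ rfl
    rcases hk k hkn with e | e | e
    · rw [← Bool.not_eq_true, Nat.blt_eq] at e; omega
    · omega
    · exact (cm_commute X.cert X.full hkn hg e s ν).symm.eq
  set y := u * xg X.cert g ν * u⁻¹ with hydef
  set x := xg X.cert r (1 : F) with hx
  have hxp : x ∈ pts X := xg_pts X hB hA hr hrf (map_one _)
  have hz : y⁻¹ * (x * y * x⁻¹) = u * xg X.cert δ (κ * ν) * u⁻¹ := by
    have e1 : x = u * (x * v) * u⁻¹ := by rw [← ev]; group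
    calc _ = u * ((xg X.cert g ν)⁻¹ * (x * (v * xg X.cert g ν * v⁻¹) * x⁻¹)) * u⁻¹ := by
          rw [hydef]; conv_lhs => rw [e1]
          group
      _ = _ := by rw [hvc.eq, mul_inv_cancel_right, hc 1 ν, inv_mul_cancel_left, mul_one]
  have hzH : u * xg X.cert δ (κ * ν) * u⁻¹ ∈ H :=
    hz ▸ mul_mem (inv_mem hy) (mul_mem (mul_mem (hM hxp) hy) (inv_mem (hM hxp)))
  have hδν : κ * ν ≠ 0 := mul_ne_zero (sq_one_ne X.cert hκ) hν
  obtain ⟨c, hcp, w, hw, -, hwp, hwδ, a, ea, haU⟩ := low X hB hA hδ hδf hδ1 hu hδν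
    (qup_pts X hB hA hM hH hS hzH (conj_qup X.cert X.full hB hu (xg_mem_qup X.cert hδ hδ1 (Nat.zero_le _) _)))
  obtain ⟨κ', -, hct⟩ := wnu_conj_xg X.cert (F := F) hw hg
  set n := wnu X.cert F w with hn
  have hwg : 1 ≤ pr T (wperm T w g) := by
    have e := corPair_wperm X.cert hw hδ hg
    rw [hwδ] at e
    simp only [pr, X.cert.spec.shape.nroots_eq, top] at e ⊢
    omega
  have hy2 : n * c⁻¹ * y * c * n⁻¹ = n * a * n⁻¹ * xg X.cert (wperm T w g) (κ' * ν) * (n * a * n⁻¹)⁻¹ := by
    rw [← hct ν, hydef, ea]; group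
  have hcn : n * c⁻¹ ∈ pts X := mul_mem hwp (inv_mem hcp)
  have hmem : n * c⁻¹ * y * c * n⁻¹ ∈ pts X := by
    refine qup_pts X hB hA hM hH hS ?_ (by
      rw [hy2]; exact conj_qup X.cert X.full hB haU (xg_mem_qup X.cert (wperm_lt X.cert hw hg) hwg (Nat.zero_le _) _))
    have := mul_mem (mul_mem (hM hcn) hy) (inv_mem (hM hcn))
    simpa [mul_assoc] using this
  have := mul_mem (mul_mem (inv_mem hcn) hmem) hcn
  simpa [mul_assoc] using this

/-- Conjugates of the highest root element in the overgroup are points. -/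
theorem conj_top_pts {g : GL D.Idx F} (hg : g ∈ H) :
    g * xg X.cert (top D) (1 : F) * g⁻¹ ∈ pts X := by
  have hθ := top_lt X hB hA
  have hθf : isFix X.sym (top D) = true := by simp [isFix, (top_fix X hB hA).1]
  have hyH : g * xg X.cert (top D) (1 : F) * g⁻¹ ∈ H :=
    mul_mem (mul_mem hg (hM (xg_pts X hB hA hθ hθf (map_one _)))) (inv_mem hg)
  obtain ⟨e, he, hall⟩ := X.ok.bruhat_fixed X.cert X.full X.comb (hH hg)
  obtain ⟨hl, -⟩ := X.comb.elt_spec X.cert e he
  obtain ⟨hw, hwi⟩ := X.comb.oword_spec X.cert hl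
  set w := X.tw.oword (X.tw.elt e).ow with hwdef
  have hwp : wnu X.cert F w ∈ pts X := oword_pts X hl
  obtain ⟨b, hb, c, hc, rfl⟩ := hall _ hwp.1 (by rw [show X.tw.eword e = w from rfl, inv_mul_cancel]; exact one_mem _)
  obtain ⟨hbB, hbF⟩ := Subgroup.mem_inf.1 hb
  obtain ⟨u, hu, d, hdd, rfl⟩ := (mem_borel X.cert).1 hbB
  have huG := pos_le_group X.cert hu
  have hdG := diag_le_group X.cert hdd
  have e1 : X.sig u * X.sig d = u * d := by rw [← X.ok.map_mul _ huG _ hdG]; exact hbF.2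
  have hus : X.sig u = u := by
    have hx : u⁻¹ * X.sig u ∈ D.posUnipotent F ⊓ D.diagonalSubgroup F := by
      refine ⟨Subgroup.mul_mem _ (Subgroup.inv_mem _ hu) (X.ok.map_pos X.cert X.comb hu), ?_⟩
      rw [show u⁻¹ * X.sig u = d * (X.sig d)⁻¹ by rw [eq_mul_inv_iff_mul_eq, mul_assoc, e1, inv_mul_cancel_left]]
      exact Subgroup.mul_mem _ hdd (Subgroup.inv_mem _ (X.ok.map_diag d hdd))
    rw [pos_inf_diag X.cert, Subgroup.mem_bot, inv_mul_eq_one] at hx
    exact hx.symm
  set γ := wperm T w (top D) with hγ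
  have hγn : γ < D.nroots := wperm_lt X.cert hw hθ
  have hγf : isFix X.sym γ = true := wperm_fix X hB hA hwi hw hθ hθf
  obtain ⟨κ, hκ, hct⟩ : ∃ κ : F, κ * κ = 1 ∧ ∀ t : F, wnu X.cert F w * xg X.cert (top D) t * (wnu X.cert F w)⁻¹ =
      xg X.cert γ (κ * t) := wnu_conj_xg X.cert (F := F) hw hθ
  obtain ⟨χ, hχ⟩ := diag_conj_xg X.cert hdd
  set ν := χ γ * (κ * 1) with hνdef
  have hν : ν ≠ 0 := mul_ne_zero (hχ γ hγn).1 (mul_ne_zero (sq_one_ne X.cert hκ) one_ne_zero)
  have hcp : c ∈ D.posUnipotent F :=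
    (posUnipotent_eq X.cert (F := F)) ▸ signPart_le_upper X.cert X.full w true _ hc.1
  have ey : u * d * wnu X.cert F w * c * xg X.cert (top D) (1 : F) * (u * d * wnu X.cert F w * c)⁻¹ =
      u * xg X.cert γ ν * u⁻¹ := by
    rw [hνdef, ← (hχ γ hγn).2, ← hct]
    calc _ = u * d * wnu X.cert F w * (c * xg X.cert (top D) (1 : F) * c⁻¹) * (wnu X.cert F w)⁻¹ * d⁻¹ * u⁻¹ := by
          group
      _ = _ := by rw [(top_comm X.cert X.full (nroots_pos X hB hA) hcp (1 : F)).eq, mul_inv_cancel_right]; group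
  rw [ey] at hyH ⊢
  by_cases hge : -1 ≤ pr T γ
  · exact root_pts X hB hA hM hH hS hγn hγf hge hu hν hyH
  have hγθ : γ = T.neg (top D) := by
    obtain ⟨h1, -, -, h4, -⟩ := (base X.cert X.full hB γ hγn).1
    exact h4 (by omega)
  have hG : chkGamma T X.sym = true := by
    simp only [chkAll, Bool.and_eq_true] at hA; exact hA.2.2.2.1
  simp only [chkGamma, Bool.and_eq_true, X.cert.spec.shape.nroots_eq, lv1, decide_eq_true_eq] at hG
  obtain ⟨⟨hβf, hβ1, hβc⟩, -⟩ := hG
  have hβ : D.nroots - 2 < D.nroots := by have := nroots_pos X hB hA; omega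
  have hβp := (base X.cert X.full hB _ hβ).1.2.2.2.2.1 (le_of_eq hβ1.symm)
  have hev := nroots_even X.cert
  set x := xg X.cert (D.nroots - 2) (1 : F) with hx
  have hxp : x ∈ pts X := xg_pts X hB hA hβ hβf (map_one _)
  have h2 := upper_conj_root X.cert X.full hβ hβp (inv_mem hu) (1 : F)
  have h2' : x⁻¹ * (u * x * u⁻¹) ∈ upper X.cert F (top D) := by
    have e : D.nroots - 2 + 1 = top D := by simp only [top]; omega
    rw [← e]
    simpa [mul_assoc] using h2
  obtain ⟨z, b, hb, ezb⟩ := (upper_step X.cert X.full.comm (k := top D) (by simp only [top]; omega)).1 h2'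
  rw [upper_top X.cert (by simp only [top]; omega), Subgroup.mem_bot] at hb
  rw [hb, mul_one] at ezb
  have hz0 : u * x * u⁻¹ = x * xg X.cert (top D) z := by rw [← ezb]; group
  have hzg : xg X.cert (top D) z ∈ X.grp := by
    have hug : u ∈ X.grp := ⟨huG, hus⟩
    have hxg : x ∈ X.grp := ((mem_pts X).1 hxp).1
    have := mul_mem (inv_mem hxg) (mul_mem (mul_mem hug hxg) (inv_mem hug))
    rwa [hz0, inv_mul_cancel_left] at this
  have hz0p : u * x * u⁻¹ ∈ pts X := by
    rw [hz0]
    exact mul_mem hxp (xg_pts X hB hA hθ hθf ((xg_grp_iff X hB hA hθ hθf z).1 hzg))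
  obtain ⟨c', hc'p, w', hw', hw'i, hw'p, hw'δ, a, ea, haU⟩ :=
    low X hB hA hβ hβf hβ1.ge hu one_ne_zero hz0p
  obtain ⟨κ', hκ', hct'⟩ := wnu_conj_xg X.cert (F := F) hw' hγn
  set n := wnu X.cert F w' with hn
  have hwg : -1 ≤ pr T (wperm T w' γ) := by
    have e := corPair_wperm X.cert hw' hβ hγn
    rw [hw'δ, hγθ] at e
    simp only [pr, X.cert.spec.shape.nroots_eq, top, hγθ] at e ⊢
    rw [e, hβc]
  have hy2 : n * c'⁻¹ * (u * xg X.cert γ ν * u⁻¹) * c' * n⁻¹ =
      n * a * n⁻¹ * xg X.cert (wperm T w' γ) (κ' * ν) * (n * a * n⁻¹)⁻¹ := by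
    rw [← hct' ν, ea]; group
  have hcn : n * c'⁻¹ ∈ pts X := mul_mem hw'p (inv_mem hc'p)
  have hmem : n * c'⁻¹ * (u * xg X.cert γ ν * u⁻¹) * c' * n⁻¹ ∈ pts X := by
    rw [hy2]
    refine root_pts X hB hA hM hH hS (wperm_lt X.cert hw' hγn) (wperm_fix X hB hA hw'i hw' hγn hγf) hwg haU
      (mul_ne_zero (sq_one_ne X.cert hκ') hν) ?_
    rw [← hy2]
    have := mul_mem (mul_mem (hM hcn) hyH) (inv_mem (hM hcn))
    simpa [mul_assoc] using this
  have := mul_mem (mul_mem (inv_mem hcn) hmem) hcn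
  simpa [mul_assoc] using this

end Cfsg.Lib.Chev.TwMax
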