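import Mathlib
import Cfsg.Agent.Lib.Chev.Overgroup.Rel
import Cfsg.Agent.Lib.Chev.TwMax.RootElts

/-!
An overgroup of the subfield points without new short root elements consists of points.
-/

set_option autoImplicit false
set_option linter.unusedSectionVars false
set_option linter.unusedVariables false

namespace Cfsg.Lib.Chev.TwMax

open Cfsg.Lie Cfsg.Lib.Chev.Ovg

variable {D : ChevalleyDatum} {T : Tbl} {F : Type*} [Field F] (X : TwCtx D T F) {L : ℕ}
  (hB : Ovg.chkBase T L = true) {W : List (List ℕ)} (hA : chkAll T X.sym X.tw X.deg W = true)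

/-- Commuting with the rational long root elements. -/
def CommLong (e : GL D.Idx F) : Prop :=
  ∀ m ∈ pts X, Commute e (m * xg X.cert (top D) (1 : F) * m⁻¹)

/-- The coordinate at a fundamental root modulo the radical. -/
def HasCoord (α : ℕ) (g : GL D.Idx F) (t : F) : Prop :=
  ∃ v ∈ D.unipotentRadical F {α}, g = v * xg X.cert (T.simp' α) t

include hB hA

theorem test_facts :
    (∀ r < D.nroots, isFix X.sym r = true → ∃ w, IsWord D w ∧ wnu X.cert F w ∈ pts X ∧ wperm T w (top D) = r) ∧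
    (∃ w, IsWord D w ∧ wnu X.cert F w ∈ pts X ∧ ∀ i < D.rank, 2 * wperm T w (T.simp' i) < D.nroots) ∧
    ∀ i < D.rank, isFix X.sym (T.simp' i) = false → ∃ r < D.nroots, isFix X.sym r = true ∧
      ∃ w, IsWord D w ∧ wnu X.cert F w ∈ pts X ∧
        (∀ d ∈ (X.tw.base 0).map (wperm T w), D.nroots ≤ 2 * d ∧ d ≠ T.simp' i ∧ nc T r d = true ∧
          ∀ x ∈ tTerms T r d, D.nroots ≤ 2 * x.1) ∧
        ∃ x, ((((X.tw.base 0).map (wperm T w)).flatMap fun d => tTerms T r d).filter
          fun x => Nat.beq x.1 (T.simp' i)) = [x] ∧ sgnB x.2.1 = true := by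
  have h : chkTest T X.sym X.tw W = true := by
    simp only [chkAll, Bool.and_eq_true] at hA; exact hA.2.2.2.2.2.1
  simp only [chkTest, Bool.and_eq_true, allBelow_iff, X.cert.spec.shape.nroots_eq, X.cert.spec.shape.rank_eq,
    Bool.or_eq_true] at h
  obtain ⟨h1, h2, h3⟩ := h
  refine ⟨fun r hr hf => ?_, ?_, fun i hi hf => ?_⟩
  · obtain ⟨w, hw, -, hwp, hP⟩ := anyWord_spec X ((h1 r hr).resolve_left (by simp [hf]))
    exact ⟨w, hw, hwp, by simpa using hP⟩
  · obtain ⟨w, hw, -, hwp, hP⟩ := anyWord_spec X h2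
    simp only [allBelow_iff, X.cert.spec.shape.rank_eq, Nat.blt_eq] at hP
    exact ⟨w, hw, hwp, hP⟩
  · obtain ⟨r, hr, h'⟩ := exists_of_anyBelow ((h3 i hi).resolve_left (by simp [hf]))
    rw [Bool.and_eq_true] at h'
    obtain ⟨w, hw, -, hwp, hP⟩ := anyWord_spec X h'.2
    rw [Bool.and_eq_true, List.all_eq_true] at hP
    obtain ⟨hP1, hP2⟩ := hP
    refine ⟨r, hr, h'.1, w, hw, hwp, fun d hd => ?_, ?_⟩
    · have := hP1 d hd
      simp only [Bool.and_eq_true, List.all_eq_true, Nat.ble_eq, Bool.not_eq_true', ← Bool.not_eq_true,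
        Nat.beq_eq] at this
      exact this
    · split at hP2
      · rename_i x hx; exact ⟨x, hx, hP2⟩
      · exact absurd hP2 Bool.false_ne_true

theorem commLong_conj {e n : GL D.Idx F} (hn : n ∈ pts X) (he : CommLong X e) : CommLong X (n * e * n⁻¹) := by
  intro m hm
  have := (he (n⁻¹ * m) (mul_mem (inv_mem hn) hm)).map (MulAut.conj n).toMonoidHom
  simpa [MulAut.conj_apply, mul_assoc] using this

theorem commLong_root {e : GL D.Idx F} (he : CommLong X e) {r : ℕ} (hr : r < D.nroots)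
    (hf : isFix X.sym r = true) {m : GL D.Idx F} (hm : m ∈ pts X) :
    Commute e (m * xg X.cert r (1 : F) * m⁻¹) := by
  obtain ⟨w, hw, hwp, hwr⟩ := (test_facts X hB hA).1 r hr hf
  obtain ⟨κ, hκ, hct⟩ := wnu_conj_xg X.cert (F := F) hw (top_lt X hB hA)
  have h := he (m * wnu X.cert F w) (mul_mem hm hwp)
  rw [show m * wnu X.cert F w * xg X.cert (top D) (1 : F) * (m * wnu X.cert F w)⁻¹ =
    m * (wnu X.cert F w * xg X.cert (top D) (1 : F) * (wnu X.cert F w)⁻¹) * m⁻¹ by group, hct, hwr, mul_one] at h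
  rcases mul_self_eq_one_iff.1 hκ with rfl | rfl
  · exact h
  · rw [← xg_inv, show m * (xg X.cert r (1 : F))⁻¹ * m⁻¹ = (m * xg X.cert r (1 : F) * m⁻¹)⁻¹ by group] at h
    exact Commute.inv_right_iff.1 h

omit hA in
theorem hasCoord_mul {α : ℕ} (hα : α < D.rank) {a b : GL D.Idx F} {s t : F} (ha : HasCoord X α a s)
    (hb : HasCoord X α b t) : HasCoord X α (a * b) (s + t) := by
  obtain ⟨v, hv, rfl⟩ := ha
  obtain ⟨v', hv', rfl⟩ := hb
  refine ⟨v * (xg X.cert (T.simp' α) s * v' * (xg X.cert (T.simp' α) s)⁻¹), mul_mem hv ?_, ?_⟩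
  · exact (Subgroup.mem_normalizer_iff.1 (levi_le_normalizer X.cert X.full _
      (xg_mem_levi X.cert (inRootSub_simple X.cert hα (Set.mem_singleton α)) s)) v').1 hv'
  · rw [← xg_add]; group

omit hA in
theorem hasCoord_root {α : ℕ} (hα : α < D.rank) {d : ℕ} (hd : d < D.nroots) (hdp : D.nroots ≤ 2 * d)
    (hne : d ≠ T.simp' α) (t : F) : HasCoord X α (xg X.cert d t) 0 :=
  ⟨_, xg_mem_radical X.cert hd hdp (fun hJ => hne (inRootSub_singleton X.cert X.full hα hJ hdp)) t,
    by rw [xg_zero, mul_one]⟩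

theorem test {e : GL D.Idx F} (he : CommLong X e) {α : ℕ} (hα : α < D.rank) :
    ∃ v ∈ D.unipotentRadical F {α}, ∃ c : F, c ≠ 0 ∧ Commute e (v * xg X.cert (T.simp' α) c) := by
  have hsα := X.cert.spec.simp_lt α hα
  cases hfα : isFix X.sym (T.simp' α)
  swap
  · exact ⟨1, one_mem _, 1, one_ne_zero, by
      simpa using commLong_root X hB hA he hsα hfα (one_mem (pts X))⟩
  obtain ⟨r, hr, hrf, w, hw, hwp, hD, x, hx, hxs⟩ := (test_facts X hB hA).2.2 α hα hfα
  obtain ⟨h0, -, -⟩ := trans_facts X hB hA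
  set n := wnu X.cert F w with hn
  set xr := xg X.cert r (1 : F) with hxr
  have key : ∀ l : List ℕ, (∀ d ∈ l, d < D.nroots ∧ wperm T w d ∈ (X.tw.base 0).map (wperm T w)) → ∃ t : F,
      HasCoord X α (n * orbEl X.cert X.frob l (1 : F) * n⁻¹) 0 ∧
      HasCoord X α (n * orbEl X.cert X.frob l (1 : F) * n⁻¹)⁻¹ 0 ∧
      HasCoord X α (xr * (n * orbEl X.cert X.frob l (1 : F) * n⁻¹) * xr⁻¹) t ∧
      ((((l.map (wperm T w)).flatMap fun d => tTerms T r d).filter fun x => Nat.beq x.1 (T.simp' α)) = [] → t = 0) ∧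
      ∀ x, (((l.map (wperm T w)).flatMap fun d => tTerms T r d).filter fun x => Nat.beq x.1 (T.simp' α)) = [x] →
        t * t = (x.2.1 : F) * (x.2.1 : F) := by
    intro l
    induction l with
    | nil =>
      intro _
      have h1 : HasCoord X α (1 : GL D.Idx F) 0 := ⟨1, one_mem _, by rw [xg_zero, mul_one]⟩
      exact ⟨0, by simpa [orbEl] using h1, by simpa [orbEl] using h1, by simpa [orbEl] using h1,
        fun _ => rfl, fun x hx => by simp at hx⟩
    | cons d l ih =>
      intro hl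
      obtain ⟨t, ha, hai, hb, hnil, hone⟩ := ih fun c hc => hl c (List.mem_cons_of_mem _ hc)
      obtain ⟨hdl, hdm⟩ := hl d (List.mem_cons_self ..)
      obtain ⟨hdp, hdne, hnc, hterms⟩ := hD _ hdm
      have hdw := wperm_lt X.cert hw hdl
      obtain ⟨c, hc, hct⟩ := wnu_conj_xg X.cert (F := F) hw hdl
      have e0 : n * orbEl X.cert X.frob (d :: l) (1 : F) * n⁻¹ =
          xg X.cert (wperm T w d) (c * 1) * (n * orbEl X.cert X.frob l (1 : F) * n⁻¹) := by
        rw [← hct, hn, orbEl, map_one]; group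
      have h1 := hasCoord_root X hB hα hdw hdp hdne (c * 1)
      set f : ℕ × ℤ × ℕ × ℕ → F := fun z => (z.2.1 : F) * (1 : F) ^ z.2.2.1 * (c * 1) ^ z.2.2.2 with hf
      obtain ⟨v, hv, ev⟩ := prod_terms_split X.cert X.full hB hα f (tTerms T r (wperm T w d))
        fun z hz => ⟨(pr_term X.cert X.full hB hr hdw hz).1, hterms z hz⟩
      set s := ((tTerms T r (wperm T w d)).filter fun z => Nat.beq z.1 (T.simp' α)).map f with hs
      refine ⟨s.sum + t, ?_, ?_, ?_, ?_, ?_⟩
      · rw [e0]; simpa using hasCoord_mul X hB hα h1 ha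
      · rw [e0, mul_inv_rev, xg_inv]
        simpa using hasCoord_mul X hB hα hai (hasCoord_root X hB hα hdw hdp hdne (-(c * 1)))
      · rw [e0, show xr * (xg X.cert (wperm T w d) (c * 1) * (n * orbEl X.cert X.frob l (1 : F) * n⁻¹)) * xr⁻¹ =
          (xr * xg X.cert (wperm T w d) (c * 1) * xr⁻¹) * (xr * (n * orbEl X.cert X.frob l (1 : F) * n⁻¹) * xr⁻¹) by
            group, hxr, conj_prod X.cert X.full hr hdw hnc, ev]
        have h2 := hasCoord_mul X hB hα h1 (⟨v, hv, rfl⟩ : HasCoord X α _ s.sum)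
        rw [zero_add] at h2
        exact hasCoord_mul X hB hα h2 hb
      · intro h
        rw [List.map_cons, List.flatMap_cons, List.filter_append, List.append_eq_nil_iff] at h
        rw [hs, h.1, hnil h.2]; simp
      · intro x hx
        rw [List.map_cons, List.flatMap_cons, List.filter_append] at hx
        rcases List.append_eq_singleton_iff.1 hx with ⟨h1', h2'⟩ | ⟨h1', h2'⟩
        · rw [hs, h1', List.map_nil, List.sum_nil, zero_add]; exact hone x h2'
        · rw [hs, h1', hnil h2', List.map_cons, List.map_nil, List.sum_cons, List.sum_nil, add_zero, add_zero]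
          simp only [hf, one_pow, mul_one]
          have hcp : c ^ x.2.2.2 * c ^ x.2.2.2 = 1 := by rw [← mul_pow, hc, one_pow]
          linear_combination ((x.2.1 : F) * (x.2.1 : F)) * hcp
  obtain ⟨t, ha, hai, hb, -, hone⟩ := key (X.tw.base 0) fun d hd =>
    ⟨X.comb.base_lt 0 h0 d hd, List.mem_map_of_mem hd⟩
  have ht : t * t = 1 := (hone x hx).trans (sgnB_sq hxs)
  set E := n * orbEl X.cert X.frob (X.tw.base 0) (1 : F) * n⁻¹ with hE
  obtain ⟨v, hv, ev⟩ := hasCoord_mul X hB hα hb hai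
  rw [add_zero] at ev
  refine ⟨v, hv, t, sq_one_ne X.cert ht, ?_⟩
  rw [← ev]
  have hEp : E ∈ pts X := mul_mem (mul_mem hwp (el0_pts X hB hA (map_one _))) (inv_mem hwp)
  have c1 := commLong_root X hB hA he hr hrf (one_mem (pts X))
  have c2 := commLong_root X hB hA he hr hrf hEp
  rw [one_mul, inv_one, mul_one] at c1
  have e3 : xr * E * xr⁻¹ * E⁻¹ = xr * (E * xr * E⁻¹)⁻¹ := by group
  rw [e3]
  exact c1.mul_right c2.inv_right

theorem borel_of_tests {e : GL D.Idx F} (he : e ∈ D.group F)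
    (ht : ∀ α < D.rank, ∃ v ∈ D.unipotentRadical F {α}, ∃ c : F, c ≠ 0 ∧
      Commute e (v * xg X.cert (T.simp' α) c)) : e ∈ D.borelSubgroup F := by
  have C := X.cert
  obtain ⟨w, hw, b, hb, c0, hc0, rfl⟩ := bruhat_normal X.cert X.full he
  by_cases hneg : ∃ α < D.rank, 2 * wperm T w (T.simp' α) < D.nroots
  · exfalso
    obtain ⟨α, hα, hn⟩ := hneg
    have hev := nroots_even X.cert
    have hsα := X.cert.spec.simp_lt α hα
    have hαJ := inRootSub_simple X.cert hα (Set.mem_singleton α)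
    have hnorm : ∀ (t : F) (v : GL D.Idx F), v ∈ D.unipotentRadical F {α} →
        xg X.cert (T.simp' α) t * v * (xg X.cert (T.simp' α) t)⁻¹ ∈ D.unipotentRadical F {α} := fun t v hv =>
      (Subgroup.mem_normalizer_iff.1 (levi_le_normalizer X.cert X.full _ (xg_mem_levi X.cert hαJ t)) v).1 hv
    obtain ⟨v, hv, c, hc', hP'⟩ := ht α hα
    have hcp : c0 ∈ D.posUnipotent F :=
      (posUnipotent_eq X.cert (F := F)) ▸ signPart_le_upper X.cert X.full w true _ hc0
    obtain ⟨v0, hv0, t0, rfl⟩ := pos_decomp X.cert X.full hα hcp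
    set P' := (v0 * xg X.cert (T.simp' α) t0) * (v * xg X.cert (T.simp' α) c) *
      (v0 * xg X.cert (T.simp' α) t0)⁻¹ with hP'def
    set v' := v0 * (xg X.cert (T.simp' α) t0 * v * (xg X.cert (T.simp' α) t0)⁻¹) *
      (xg X.cert (T.simp' α) c * v0⁻¹ * (xg X.cert (T.simp' α) c)⁻¹) with hv'def
    have hv' : v' ∈ D.unipotentRadical F {α} :=
      mul_mem (mul_mem hv0 (hnorm _ _ hv)) (hnorm _ _ (inv_mem hv0))
    have eP : P' = v' * xg X.cert (T.simp' α) c := by
      rw [hP'def, hv'def]
      have : Commute (xg X.cert (T.simp' α) c) (xg X.cert (T.simp' α) t0) :=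
        show _ = _ by rw [xg_add, xg_add, add_comm]
      calc _ = v0 * (xg X.cert (T.simp' α) t0 * v) *
            (xg X.cert (T.simp' α) c * (xg X.cert (T.simp' α) t0)⁻¹) * v0⁻¹ := by group
        _ = _ := by rw [this.inv_right.eq]; group
    have hPpos : P' ∈ upper X.cert F (D.nroots / 2) := by
      rw [← posUnipotent_eq X.cert, eP]
      exact mul_mem (radical_le_pos X.cert _ hv') (xg_mem_pos X.cert hsα (X.full.simple_pos hα) c)
    obtain ⟨a, ha, c', hc'', eac⟩ :=
      upper_split X.cert X.full w (D.nroots / 2) (k := D.nroots / 2) (by omega) (by omega) hPpos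
    have haB : wnu X.cert F w * a * (wnu X.cert F w)⁻¹ ∈ D.borelSubgroup F :=
      Subgroup.mem_sup_left ((signPart_conj X.cert X.full hw).2 ha)
    have hPB : v * xg X.cert (T.simp' α) c ∈ D.borelSubgroup F :=
      Subgroup.mem_sup_left (mul_mem (radical_le_pos X.cert _ hv) (xg_mem_pos X.cert hsα (X.full.simple_pos hα) c))
    have e1 : b * (wnu X.cert F w * a * (wnu X.cert F w)⁻¹) * wnu X.cert F w * c' =
        v * xg X.cert (T.simp' α) c * b * wnu X.cert F w * 1 := by
      calc _ = b * wnu X.cert F w * (a * c') := by group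
        _ = b * wnu X.cert F w * (v0 * xg X.cert (T.simp' α) t0) * (v * xg X.cert (T.simp' α) c) *
              (v0 * xg X.cert (T.simp' α) t0)⁻¹ := by rw [← eac, hP'def]; group
        _ = v * xg X.cert (T.simp' α) c * (b * wnu X.cert F w * (v0 * xg X.cert (T.simp' α) t0)) *
              (v0 * xg X.cert (T.simp' α) t0)⁻¹ := by rw [hP'.eq]
        _ = _ := by group
    obtain ⟨-, hc1⟩ := cell_unique X.cert (mul_mem hb haB) (mul_mem hPB hb) (by
      rw [one_mul]
      exact (signPart_conj X.cert X.full hw).1 (inv_mem hc'')) e1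
    rw [hc1, mul_one] at eac
    have haR : a ∈ D.unipotentRadical F {α} := by
      suffices h : signPart X.cert X.full F w false (D.nroots / 2) ≤ D.unipotentRadical F {α} from h ha
      refine (Subgroup.closure_le _).2 ?_
      rintro x ⟨r, t, h1, h2, h3, rfl⟩
      refine xg_mem_radical X.cert h2 (by omega) (fun hJ => ?_) t
      rw [inRootSub_singleton X.cert X.full hα hJ (by omega)] at h3
      exact of_decide_eq_false h3 hn
    have hx : xg X.cert (T.simp' α) c ∈ D.unipotentRadical F {α} ⊓ D.leviSubgroup F {α} := by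
      refine ⟨?_, xg_mem_levi X.cert hαJ c⟩
      have := mul_mem (inv_mem hv') (eac ▸ haR : P' ∈ D.unipotentRadical F {α})
      rwa [eP, inv_mul_cancel_left] at this
    rw [radical_inf_levi X.cert X.full, Subgroup.mem_bot] at hx
    exact hc' (xg_eq_one X.cert hsα hx)
  · push Not at hneg
    exact mul_mem (mul_mem hb (Subgroup.mem_sup_right (word_kernel X.cert X.full _ rfl hw hneg)))
      (signPart_le_borel X.cert X.full w true hc0)

theorem diag_of_commLong {e : GL D.Idx F} (he : e ∈ D.group F) (hc : CommLong X e) :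
    e ∈ D.diagonalSubgroup F := by
  obtain ⟨w, hw, hwp, hl⟩ := (test_facts X hB hA).2.1
  have hev := nroots_even X.cert
  set n := wnu X.cert F w with hn
  have hB' : n * e * n⁻¹ ∈ D.borelSubgroup F :=
    borel_of_tests X hB hA (mul_mem (mul_mem (wnu_mem_group X.cert hw) he) (inv_mem (wnu_mem_group X.cert hw)))
      fun α hα => test X hB hA (commLong_conj X hB hA hwp hc) hα
  obtain ⟨u, hu, d, hd, e'⟩ :=
    (mem_borel X.cert).1 (borel_of_tests X hB hA he fun α hα => test X hB hA hc hα)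
  have hmap : n * u * n⁻¹ ∈ D.negUnipotent F := by
    have : u ∈ signPart X.cert X.full F w true (D.nroots / 2) := by
      rw [posUnipotent_eq X.cert] at hu
      suffices h : upper X.cert F (D.nroots / 2) ≤ signPart X.cert X.full F w true (D.nroots / 2) from h hu
      refine (Subgroup.closure_le _).2 ?_
      rintro x ⟨r, t, h1, h2, rfl⟩
      refine xg_mem_signPart X.cert X.full h1 h2 (decide_eq_true ?_) t
      refine not_le.1 fun hc' => ?_
      have := neg_of_forall X.cert (wperm_lt X.cert hw h2) fun m hm => by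
        rw [coroot_wperm X.cert hw h2 m hm]
        refine Finset.sum_nonpos fun k hk => ?_
        rw [Finset.mem_range] at hk
        exact mul_nonpos_iff.2 (Or.inl ⟨coroot_nonneg X.cert h2 (by omega) hk,
          coroot_nonpos X.cert (wperm_lt X.cert hw (X.cert.spec.simp_lt k hk)) (hl k hk) hm⟩)
      omega
    exact (signPart_conj X.cert X.full hw).1 this
  have hd' := (conj_mem_diag X.cert (F := F) (wnu_mem X.cert hw) hd).1
  have hu1 : n * u * n⁻¹ = 1 := (Subgroup.eq_bot_iff_forall _).1 (borel_inf_neg X.cert) _ ⟨by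
    have : n * u * n⁻¹ = n * e * n⁻¹ * (n * d * n⁻¹)⁻¹ := by rw [e']; group
    rw [this]
    exact Subgroup.mul_mem _ hB' (Subgroup.inv_mem _ (Subgroup.mem_sup_right hd')), hmap⟩
  obtain rfl : u = 1 := by simpa using hu1
  rw [e', one_mul]; exact hd

theorem eq_one_of_commLong {e : GL D.Idx F} (he : e ∈ D.group F) (hc : CommLong X e) : e = 1 := by
  have hd := diag_of_commLong X hB hA he hc
  obtain ⟨c, hcc, ec⟩ := coe_diagonal X.cert hd
  have hconj : ∀ {r : ℕ}, r < D.nroots → ∀ t : F,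
      e * xg X.cert r t = xg X.cert r (chr T D c r * t) * e := fun {r} hr t => Units.ext (by
    rw [Units.val_mul, Units.val_mul, ec, coe_xg, coe_xg, scal_mul_x X.cert.spec _ hcc hr t])
  have hsimp : ∀ α < D.rank, chr T D c (T.simp' α) = 1 := by
    intro α hα
    have hsα := X.cert.spec.simp_lt α hα
    obtain ⟨v, hv, t, ht, hP⟩ := test X hB hA hc hα
    set χ := chr T D c (T.simp' α)
    have h1 : e * v * e⁻¹ * xg X.cert (T.simp' α) (χ * t) = v * xg X.cert (T.simp' α) t := by
      calc _ = e * v * e⁻¹ * (xg X.cert (T.simp' α) (χ * t) * e) * e⁻¹ := by group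
        _ = e * (v * xg X.cert (T.simp' α) t) * e⁻¹ := by rw [← hconj hsα]; group
        _ = _ := by rw [hP.eq, mul_inv_cancel_right]
    have h2 : xg X.cert (T.simp' α) (χ * t + -t) ∈
        D.unipotentRadical F {α} ⊓ D.leviSubgroup F {α} := by
      refine Subgroup.mem_inf.2 ⟨?_, xg_mem_levi X.cert (inRootSub_simple X.cert hα (Set.mem_singleton α)) _⟩
      have : xg X.cert (T.simp' α) (χ * t + -t) = (e * v * e⁻¹)⁻¹ * v := by
        rw [← xg_add, ← xg_inv, eq_inv_mul_iff_mul_eq, ← mul_assoc, h1, mul_inv_cancel_right]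
      rw [this]
      exact mul_mem (inv_mem (diag_conj_radical X.cert X.full hd hv)) hv
    rw [radical_inf_levi X.cert X.full, Subgroup.mem_bot] at h2
    exact mul_right_cancel₀ ht (by linear_combination xg_eq_one X.cert hsα h2)
  have hcomm : ∀ {r : ℕ}, r < D.nroots → chr T D c r = 1 → ∀ t : F, Commute e (xg X.cert r t) :=
    fun hr h t => show _ = _ by rw [hconj hr, h, one_mul]
  refine diag_eq_one_of_comm X.cert hd fun r hr => ?_
  refine X.cert.root_induction (P := fun r => Commute e (xg X.cert r (1 : F)))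
    (fun α hα => hcomm (X.cert.spec.simp_lt α hα) (hsimp α hα) 1) (fun i hi r hr ih => ?_) r hr
  have hsi := X.cert.spec.simp_lt i hi
  have hneg : chr T D c (T.neg (T.simp' i)) = 1 := by
    rw [chr_neg X.cert.spec c hsi, hsimp i hi, inv_one]
  have hnu : Commute e (nu X.cert i : GL D.Idx F) := by
    rw [nu, ng, X.cert.spec.shape.neg_eq _ hsi]
    exact ((hcomm hsi (hsimp i hi) _).mul_right (hcomm (X.cert.spec.neg_lt _ hsi) hneg _)).mul_right
      (hcomm hsi (hsimp i hi) _)
  have h2 : Commute e (nu X.cert i * xg X.cert r (1 : F) * (nu X.cert i)⁻¹) :=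
    (hnu.mul_right ih).mul_right hnu.inv_right
  rw [nu_conj_xg X.cert hi hr 1, mul_one] at h2
  rcases eta_cases T i r with h | h <;> rw [h] at h2
  · simpa using h2
  · rw [Int.cast_neg, Int.cast_one, ← xg_inv] at h2
    exact Commute.inv_right_iff.1 h2

variable {H : Subgroup (GL D.Idx F)} (hM : pts X ≤ H) (hH : H ≤ X.grp)
  (hS : ∀ v : F, X.el 0 v ∈ H → X.frob v = v)
include hM hH hS

/-- The overgroup consists of points. -/
theorem le_pts : H ≤ pts X := by
  intro g hg
  have hgG : g ∈ D.group F := (hH hg).1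
  refine (mem_pts X).2 ⟨hH hg, ?_⟩
  have h := eq_one_of_commLong X hB hA (mul_mem (inv_mem hgG) (map_group_le X.cert X.frob hgG)) fun m hm => by
    have hr := mul_mem (mul_mem hm (xg_pts X hB hA (top_lt X hB hA)
      (by simp [isFix, (top_fix X hB hA).1]) (map_one X.frob))) (inv_mem hm)
    have hy := conj_top_pts X hB hA hM hH hS (mul_mem hg (hM hm))
    rw [show g * m * xg X.cert (top D) (1 : F) * (g * m)⁻¹ = g * (m * xg X.cert (top D) (1 : F) * m⁻¹) * g⁻¹ by
      group] at hy
    have e := ((mem_pts X).1 hy).2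
    rw [map_mul, map_mul, map_inv, ((mem_pts X).1 hr).2] at e
    set r := m * xg X.cert (top D) (1 : F) * m⁻¹ with hrdef
    set g' := Matrix.GeneralLinearGroup.map X.frob g
    show g⁻¹ * g' * r = r * (g⁻¹ * g')
    calc g⁻¹ * g' * r = g⁻¹ * (g' * r * g'⁻¹) * g' := by group
      _ = _ := by rw [e]; group
  exact (inv_mul_eq_one.1 h).symm

end Cfsg.Lib.Chev.TwMax
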