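import Cfsg.Agent.Lib.Chev.TwMax.Check
import Cfsg.Agent.Lib.Chev.TwDataD4
import Cfsg.Agent.Lib.Chev.TwDataE6

/-! The checks for the two types. -/

set_option autoImplicit false
set_option maxRecDepth 100000

namespace Cfsg.Lib.Chev.TwMax

open Cfsg.Lie

/-- Orbit words for D4. -/
def witD4 : List (List ℕ) :=
  [[], [1], [0, 1], [1, 0], [1, 0, 1], [0, 1, 0, 1], [1, 0, 1, 0, 1], [1, 0, 1, 0, 1, 0]]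

/-- Orbit words for E6. -/
def witE6 : List (List ℕ) :=
  [[3, 2, 1, 2, 0, 1, 2], [3, 2, 1, 2, 0, 1], [3, 2, 1, 2, 0], [3, 2, 1, 0], [3, 2, 1, 2], [3, 2, 1], [3, 2], [3], [], [3, 2, 1, 2, 0, 1, 2, 3, 2, 1, 2, 0, 1, 2, 3], [2, 1, 2, 0, 1, 2, 3, 2, 1, 2, 0, 1, 2, 3], [1, 2, 0, 1, 2, 3, 2, 1, 2, 0, 1, 2, 3], [2, 0, 1, 2, 3, 2, 1, 2, 0, 1, 2, 3], [0, 1, 2, 3, 2, 1, 2, 0, 1, 2, 3], [0, 1, 2, 3, 1, 2, 0, 1, 2, 3], [2, 1, 2, 3, 2, 1, 2, 0, 1, 2, 3], [1, 2, 3, 2, 1, 2, 0, 1, 2, 3], [2, 3, 2, 1, 2, 0, 1, 2, 3], [3, 2, 1, 2, 0, 1, 2, 3], [1, 2, 3, 1, 2, 0, 1, 2, 3], [2, 3, 1, 2, 0, 1, 2, 3], [3, 1, 2, 0, 1, 2, 3], [3, 2, 0, 1, 2, 3], [2, 1, 2, 0, 1, 2, 3], [1, 2, 0, 1, 2, 3], [2, 0, 1, 2, 3], [0, 1, 2, 3], [3, 2, 1, 2, 3], [2, 1, 2, 3], [1, 2, 3], [2, 3], [0, 1, 2, 3, 1,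 2, 1], [1, 2, 3, 1, 2, 1], [2, 3, 1, 2, 1], [3, 1, 2, 1], [3, 2, 0, 1], [1, 2, 1], [2, 0, 1], [3, 2, 1, 2, 0, 1, 2, 3, 2, 1, 2, 0, 1, 2, 3, 2, 1, 2, 0, 1, 2, 0, 1, 0], [0, 1]]

theorem all_D4 : chkAll tblD4 symD4_3 twD4 3 witD4 = true := by decide +kernel

theorem quad_D4 : chkQuad tblD4 symD4_3 twD4 witD4 = true := by decide +kernel

theorem all_E6 : chkAll tblE6 symE6_1 twE6 2 witE6 = true := by decide +kernel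

end Cfsg.Lib.Chev.TwMax
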