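import Mathlib
import Cfsg.Agent.Lib.Chev.TwMax.Cent

/-!
An overgroup of the subfield points with a new short root element is the whole twisted group.
-/

set_option autoImplicit false
set_option linter.unusedSectionVars false
set_option linter.unusedVariables false

namespace Cfsg.Lib.Chev.TwMax

open Cfsg.Lie Cfsg.Lib.Chev.Ovg

section Field

variable {F : Type*} [Field F] (f : F →+* F) (S : AddSubgroup F)

theorem scale_mem [Finite F] (h : ∀ t ∈ S, ∀ v : F, f v = v → v ≠ 0 → v ^ 2 * t ∈ S) {x t : F} (hx : f x = x)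
    (ht : t ∈ S) : x * t ∈ S := by
  have h' : ∀ t ∈ S, ∀ v : F, f v = v → v ^ 2 * t ∈ S := fun t ht v hv => by
    by_cases hv0 : v = 0
    · simp [hv0]
    · exact h t ht v hv hv0
  by_cases h2 : (2 : F) = 0
  · have hinj : Function.Injective fun y : F => y ^ 2 := fun a b e => by
      have e' : a ^ 2 = b ^ 2 := e
      have h0 : (a - b) ^ 2 = 0 := by linear_combination e' + (b ^ 2 - a * b) * h2
      exact sub_eq_zero.1 (pow_eq_zero_iff two_ne_zero |>.1 h0)
    obtain ⟨y, hy⟩ := Finite.injective_iff_surjective.1 hinj x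
    have hy' : y ^ 2 = x := hy
    have hyf : f y = y := hinj (show f y ^ 2 = y ^ 2 by rw [← map_pow, hy', hx])
    rw [← hy']; exact h' t ht y hyf
  · have h4 : (4 : F) ≠ 0 := by
      rw [show (4 : F) = 2 * 2 by norm_num]; exact mul_ne_zero h2 h2
    set z := x / 4 with hz
    have hzf : f z = z := by rw [hz, map_div₀, hx, map_ofNat]
    have := S.sub_mem (h' t ht (z + 1) (by rw [map_add, hzf, map_one]))
      (h' t ht (z - 1) (by rw [map_sub, hzf, map_one]))
    rw [show (z + 1) ^ 2 * t - (z - 1) ^ 2 * t = 4 * z * t by ring, hz, mul_div_cancel₀ _ h4] at this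
    exact this

theorem all_mem_two (hscale : ∀ {x t : F}, f x = x → t ∈ S → x * t ∈ S) (h1 : (1 : F) ∈ S)
    (hper : ∀ z, f (f z) = z) {u : F} (hu : u ∈ S) (hfu : f u ≠ u) (z : F) : z ∈ S := by
  have hd : u - f u ≠ 0 := sub_ne_zero.2 (Ne.symm hfu)
  set b := (z - f z) / (u - f u) with hb
  have hbd : b * (u - f u) = z - f z := div_mul_cancel₀ _ hd
  have hbf : f b = b := by
    rw [hb, map_div₀, map_sub, map_sub, hper, hper, ← neg_sub z, ← neg_sub u, neg_div_neg_eq]
  have ha : f (z - b * u) = z - b * u := by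
    rw [map_sub, map_mul, hbf]
    linear_combination hbd
  rw [show z = (z - b * u) * 1 + b * u by ring]
  exact S.add_mem (hscale ha h1) (hscale hbf hu)

theorem all_mem_three [Finite F] (hscale : ∀ {x t : F}, f x = x → t ∈ S → x * t ∈ S) (h1 : (1 : F) ∈ S)
    {c : ℕ} (hcard : Nat.card F = c ^ 3) (hc : Nat.card {x : F // f x = x} = c) (hper : ∀ z, f (f (f z)) = z)
    {u : F} (hu : u ∈ S) (hu2 : u ^ 2 ∈ S) (hfu : f u ≠ u) (z : F) : z ∈ S := by
  let φ : {x : F // f x = x} × {x : F // f x = x} × {x : F // f x = x} → F :=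
    fun p => p.1.1 + p.2.1.1 * u + p.2.2.1 * u ^ 2
  have hinj : Function.Injective φ := by
    rintro ⟨⟨a, ha⟩, ⟨b, hb⟩, ⟨d, hd⟩⟩ ⟨⟨a', ha'⟩, ⟨b', hb'⟩, ⟨d', hd'⟩⟩ e
    have e' : a + b * u + d * u ^ 2 = a' + b' * u + d' * u ^ 2 := e
    have e1 := congrArg f e'
    simp only [map_add, map_mul, map_pow, ha, hb, hd, ha', hb', hd'] at e1
    have e2 := congrArg f e1
    simp only [map_add, map_mul, map_pow, ha, hb, hd, ha', hb', hd'] at e2
    have hd1 : u - f u ≠ 0 := sub_ne_zero.2 (Ne.symm hfu)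
    have hd2 : f u - f (f u) ≠ 0 := sub_ne_zero.2 fun e => hfu (f.injective e).symm
    have hd3 : u - f (f u) ≠ 0 := sub_ne_zero.2 fun e => hfu (by
      conv_lhs => rw [e]
      rw [hper])
    have g1 : (b - b') + (d - d') * (u + f u) = 0 :=
      mul_left_cancel₀ hd1 (by linear_combination e' - e1)
    have g2 : (b - b') + (d - d') * (f u + f (f u)) = 0 :=
      mul_left_cancel₀ hd2 (by linear_combination e1 - e2)
    have hdd : d = d' := sub_eq_zero.1 (mul_left_cancel₀ hd3 (by linear_combination g1 - g2))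
    have hbb : b = b' := sub_eq_zero.1 (by linear_combination g1 - (u + f u) * hdd)
    have haa : a = a' := by linear_combination e' - u * hbb - u ^ 2 * hdd
    subst hdd hbb haa
    rfl
  obtain ⟨p, rfl⟩ := (hinj.bijective_of_nat_card_le (by rw [Nat.card_prod, Nat.card_prod, hc, hcard]; ring_nf; rfl)).2 z
  refine S.add_mem (S.add_mem ?_ (hscale p.2.1.2 hu)) (hscale p.2.2.2 hu2)
  simpa using hscale p.1.2 h1

theorem sq_mem_of_inv (h1 : (1 : F) ∈ S) (hinv : ∀ t ∈ S, t⁻¹ ∈ S) {a : F} (ha : a ∈ S) : a ^ 2 ∈ S := by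
  by_cases h0 : a = 0
  · simp [h0]
  by_cases h1' : a = 1
  · simpa [h1'] using h1
  have hne : 1 - a ≠ 0 := sub_ne_zero.2 (Ne.symm h1')
  have h := hinv _ (S.add_mem (hinv a ha) (hinv _ (S.sub_mem h1 ha)))
  have e : (a⁻¹ + (1 - a)⁻¹)⁻¹ = a - a ^ 2 := by
    rw [show a⁻¹ + (1 - a)⁻¹ = (a - a ^ 2)⁻¹ by
      rw [show a - a ^ 2 = a * (1 - a) by ring, mul_inv]; field_simp; ring, inv_inv]
  rw [e] at h
  have := S.sub_mem ha h
  rwa [sub_sub_cancel] at this

end Field

variable {D : ChevalleyDatum} {T : Tbl} {F : Type*} [Field F] (X : TwCtx D T F) {L : ℕ}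
  (hB : Ovg.chkBase T L = true) {W : List (List ℕ)} (hA : chkAll T X.sym X.tw X.deg W = true)
  {H : Subgroup (GL D.Idx F)} (hM : pts X ≤ H) (hH : H ≤ X.grp)
include hB hA hM hH

/-- The parameters of the first orbit. -/
noncomputable def params : AddSubgroup F where
  carrier := {t | X.el 0 t ∈ H}
  zero_mem' := hM (el0_pts X hB hA (map_zero _))
  add_mem' := fun {a b} ha hb => by
    show X.el 0 (a + b) ∈ H
    rw [← X.el_add (orb0 X (trans_facts X hB hA).1)]
    exact mul_mem ha hb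
  neg_mem' := fun {a} ha => by
    show X.el 0 (-a) ∈ H
    rw [← X.el_inv (orb0 X (trans_facts X hB hA).1)]
    exact inv_mem ha

theorem mem_params {t : F} : t ∈ params X hB hA hM ↔ X.el 0 t ∈ H := Iff.rfl

theorem params_scale {x t : F} (hx : X.frob x = x) (ht : t ∈ params X hB hA hM) :
    x * t ∈ params X hB hA hM := by
  haveI := X.finite
  refine scale_mem X.frob _ (fun t ht v hv hv0 => ?_) hx ht
  set J := orb0 X (trans_facts X hB hA).1
  set v' : Fˣ := Units.mk0 v hv0
  have hnn : ∀ w : F, X.frob w = w → X.nn J w ∈ pts X := fun w hw => by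
    refine (mem_pts X).2 ⟨X.nn_mem J (sub_zero_univ X hB hA w), ?_⟩
    rw [X.nn_eq J, map_mul, map_mul, TwCtx.el, TwCtx.eln, map_orbEl, map_orbEl, map_neg, map_inv₀, hw]
  have htor : X.tor J v' ∈ pts X := by
    rw [X.tor_eq]
    exact mul_mem (hnn v hv) (hnn (-1) (by rw [map_neg, map_one]))
  have := mul_mem (mul_mem (hM htor) ht) (inv_mem (hM htor))
  rwa [show (0 : ℕ) = (J : ℕ) from rfl, X.tor_conj_el] at this

/-- If the parameters are all, the overgroup is everything. -/
theorem grp_le_of_all (h : ∀ v : F, X.el 0 v ∈ H) : X.grp ≤ H := by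
  haveI := X.finite
  have key : ∀ J : Fin X.tw.norb, ∀ v ∈ X.sub J, X.el J v ∈ H := by
    intro J v hv
    rcases (trans_facts X hB hA).2.2 J J.2 with h1 | ⟨w, hw, hwp, hwm, hlen⟩
    · refine hM ((mem_pts X).2 ⟨X.el_mem J hv, ?_⟩)
      have hf := X.mem_sub.1 hv
      rw [show X.len J = 1 from h1] at hf
      rw [TwCtx.el, map_orbEl]
      exact congrArg _ hf
    obtain ⟨h0, hlen0, -⟩ := trans_facts X hB hA
    set n := wnu X.cert F w with hn
    have hconj : ∀ u : F, ∃ u' : F, n * X.el 0 u * n⁻¹ = X.el J u' := by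
      intro u
      obtain ⟨t, ht, -⟩ := orbEl_mem_pset X.cert X.frob (X.tw.base 0) u (X.comb.base_nodup 0 h0)
      have key : ∀ l : List ℕ, (∀ r ∈ l, r ∈ X.tw.base 0) → l.Nodup → ∃ t' : ℕ → F,
          n * lprod X.cert l t * n⁻¹ = lprod X.cert (l.map (wperm T w)) t' := by
        intro l
        induction l with
        | nil => exact fun _ _ => ⟨fun _ => 0, by simp [lprod]⟩
        | cons r l ih =>
          intro hl hnd
          classical
          obtain ⟨t', e'⟩ := ih (fun x hx => hl x (List.mem_cons_of_mem _ hx)) (List.nodup_cons.1 hnd).2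
          have hr := X.comb.base_lt 0 h0 r (hl r (List.mem_cons_self ..))
          obtain ⟨c, -, hct⟩ := wnu_conj_xg X.cert (F := F) hw hr
          refine ⟨Function.update t' (wperm T w r) (c * t r), ?_⟩
          rw [List.map_cons, lprod_cons, lprod_cons, Function.update_self, ← hct,
            lprod_congr X.cert (t := Function.update t' (wperm T w r) (c * t r)) (u := t') fun x hx => Function.update_of_ne ?_ _ _, ← e']
          · rw [hn]; group
          · rintro rfl
            obtain ⟨y, hy, ey⟩ := List.mem_map.1 hx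
            have e2 := congrArg (wperm T w.reverse) ey
            rw [wperm_reverse X.cert hw (X.comb.base_lt 0 h0 y (hl y (List.mem_cons_of_mem _ hy))),
              wperm_reverse X.cert hw hr] at e2
            exact (List.nodup_cons.1 hnd).1 (e2 ▸ hy)
      obtain ⟨t', e'⟩ := key _ (fun r hr => hr) (X.comb.base_nodup 0 h0)
      have hndm : ((X.tw.base 0).map (wperm T w)).Nodup := by
        refine List.Nodup.map_on (fun a ha b hb e => ?_) (X.comb.base_nodup 0 h0)
        have e2 := congrArg (wperm T w.reverse) e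
        rwa [wperm_reverse X.cert hw (X.comb.base_lt 0 h0 a ha),
          wperm_reverse X.cert hw (X.comb.base_lt 0 h0 b hb)] at e2
      have hperm : ((X.tw.base 0).map (wperm T w)).Perm (X.tw.base J) := by
        refine (hndm.subperm fun x hx => ?_).perm_of_length_le (by rw [List.length_map, hlen])
        obtain ⟨r, hr, rfl⟩ := List.mem_map.1 hx
        exact hwm r hr
      have e2 : lprod X.cert ((X.tw.base 0).map (wperm T w)) t' = lprod X.cert (X.tw.base J) t' := by
        refine (hperm.map fun r => xg X.cert r (t' r)).prod_eq' ?_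
        rw [List.pairwise_map]
        have hb : (X.tw.base J).Pairwise fun a b => Commute (xg X.cert a (t' a)) (xg X.cert b (t' b)) :=
          (X.base_data J).2.imp fun h => (h _ _).1
        exact (hperm.symm.pairwise_iff fun h => h.symm).1 hb
      have hmem : n * X.el 0 u * n⁻¹ ∈ twFixPart X.cert X.sig (X.tw.base J) := by
        refine ⟨⟨t', ?_⟩, (mul_mem (mul_mem ((mem_pts X).1 hwp).1 (el0_grp X hB hA u))
          (inv_mem ((mem_pts X).1 hwp).1) : _ ∈ X.grp).2⟩
        rw [TwCtx.el, ht, e', e2]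
      obtain ⟨u', -, e⟩ := (X.fixPart_el J).1 hmem
      exact ⟨u', e⟩
    choose φ hφ using hconj
    have hinj : Function.Injective φ := fun a b e => by
      have e1 := hφ a
      rw [e, ← hφ b, mul_left_inj, mul_right_inj] at e1
      exact X.el_injective (orb0 X h0) e1
    obtain ⟨u, rfl⟩ := Finite.injective_iff_surjective.1 hinj v
    rw [← hφ]
    exact mul_mem (mul_mem (hM hwp) (h u)) (inv_mem (hM hwp))
  rw [TwCtx.grp, X.simply.fixed_eq_closure X.cert X.symOK X.frob X.full X.comb X.linked X.torus,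
    Subgroup.closure_le]
  rintro g ⟨J, hJ, t, ht, rfl | rfl⟩
  · exact key ⟨J, hJ⟩ t (X.mem_sub.2 ht)
  · have hn := hM (nn_pts X ⟨J, hJ⟩)
    have h2 := mul_mem (mul_mem hn (key ⟨J, hJ⟩ (-t) (neg_mem (X.mem_sub.2 ht)))) (inv_mem hn)
    rw [X.nn_conj ⟨J, hJ⟩ one_ne_zero, neg_neg, one_pow, div_one] at h2
    exact h2

theorem exists_quad (hdeg : X.deg = 3) (hQ : chkQuad T X.sym X.tw W = true) :
    ∃ m : ℕ, ∀ t ∈ params X hB hA hM, (X.frob^[m] t)⁻¹ ∈ params X hB hA hM := by
  simp only [chkQuad] at hQ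
  obtain ⟨b, hb, hQ⟩ := exists_of_anyBelow hQ
  rw [X.cert.spec.shape.nroots_eq] at hb
  simp only [Bool.and_eq_true, lv1, decide_eq_true_eq, List.all_eq_true] at hQ
  obtain ⟨hbf, hb1, hd0, hQ⟩ := hQ
  obtain ⟨s₁, hs₁, hQ⟩ := exists_of_anyBelow hQ
  rw [X.cert.spec.shape.nroots_eq] at hs₁
  simp only [Bool.and_eq_true, Bool.not_eq_true', decide_eq_true_eq] at hQ
  obtain ⟨h11, ⟨h1f, hm1⟩, hQ⟩ := hQ
  obtain ⟨s₂, hs₂, hQ⟩ := exists_of_anyBelow hQ
  rw [X.cert.spec.shape.nroots_eq] at hs₂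
  simp only [Bool.and_eq_true, Bool.not_eq_true', decide_eq_true_eq, List.all_eq_true, allBelow_iff,
    Bool.or_eq_true, decide_eq_false_iff_not, X.cert.spec.shape.nroots_eq] at hQ
  obtain ⟨h21, h2f, hdisj, -, hdis', hcov, hm2⟩ := hQ
  split at hm1
  rotate_left
  · exact absurd hm1 Bool.false_ne_true
  rename_i x₁ hx₁
  split at hm2
  rotate_left
  · exact absurd hm2 Bool.false_ne_true
  rename_i x₂ hx₂
  simp only [Bool.and_eq_true, decide_eq_true_eq] at hm1 hm2
  obtain ⟨⟨hsg1, hp1⟩, hm1⟩ := hm1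
  obtain ⟨⟨hsg2, hp2⟩, hm2⟩ := hm2
  obtain ⟨i, hi, hm1⟩ := exists_of_anyBelow hm1
  obtain ⟨j, hj, hm2⟩ := exists_of_anyBelow hm2
  rw [Bool.and_eq_true] at hm1
  obtain ⟨hhot, hm1⟩ := hm1
  obtain ⟨w, hw, -, hwp, hP⟩ := anyWord_spec X hm1
  simp only [Bool.and_eq_true, Nat.beq_eq, List.all_eq_true, decide_eq_true_eq, allBelow_iff, Bool.or_eq_true,
    Bool.not_eq_true', decide_eq_false_iff_not, X.cert.spec.shape.nroots_eq] at hP
  obtain ⟨hget, him, himb⟩ := hP
  obtain ⟨h0, hlen0, -⟩ := trans_facts X hB hA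
  rw [hdeg] at hlen0
  have hds : ∀ d ∈ X.tw.base 0, d < D.nroots ∧ pr T d = 0 := fun d hd => ⟨X.comb.base_lt 0 h0 d hd, hd0 d hd⟩
  obtain ⟨hil, ew⟩ : ∃ h : i < (X.tw.base 0).length, wperm T w (X.tw.base 0)[i] = par T s₁ := by
    refine ⟨by omega, ?_⟩
    rwa [List.getD_eq_getElem _ _ (by rw [List.length_map]; omega), List.getElem_map] at hget
  have hl : ∀ r ∈ X.tw.base 0, r < D.nroots ∧ 1 ≤ pr T (wperm T w r) := fun r hr =>
    ⟨X.comb.base_lt 0 h0 r hr, him _ (List.mem_map_of_mem hr)⟩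
  have hnd := X.comb.base_nodup 0 h0
  obtain ⟨o1, o2⟩ := orb_coord X hB hA hw hs₁ h11 _ hl hnd
  obtain ⟨c₁, hc₁, ec₁⟩ := o2 i hil ew
  obtain ⟨n₂, hn₂, i₂, c₂, hc₂, hP₂⟩ := short_fam X hB hA hs₂ h21 h2f
  refine ⟨2 * i₂ + j, fun t ht => ?_⟩
  by_cases ht0 : t = 0
  · rw [ht0, iterate_map_zero, inv_zero]; exact zero_mem _
  set y := xg X.cert b (1 : F) with hy
  have hyp : y ∈ pts X := xg_pts X hB hA hb hbf (map_one _)
  have hyq : y ∈ qup X.cert F 0 := xg_mem_qup X.cert hb hb1.ge (Nat.zero_le _) _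
  set ts : List F := [t, X.frob t, X.frob (X.frob t)] with hts
  have htlen : ts.length = (X.tw.base 0).length := by rw [hlen0]; rfl
  have hQel : xprod X (X.tw.base 0) ts = X.el 0 t := by
    rw [TwCtx.el]
    rcases hbase : X.tw.base 0 with _ | ⟨r₀, _ | ⟨r₁, _ | ⟨r₂, _ | ⟨r₃, l⟩⟩⟩⟩ <;> rw [hbase] at hlen0 <;>
      simp at hlen0
    simp [hts, xprod, orbEl]
  have hQi : (xprod X (X.tw.base 0) ts)⁻¹ = xprod X (X.tw.base 0) [-t, X.frob (-t), X.frob (X.frob (-t))] := by
    rw [hQel, X.el_inv (orb0 X h0), TwCtx.el]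
    rcases hbase : X.tw.base 0 with _ | ⟨r₀, _ | ⟨r₁, _ | ⟨r₂, _ | ⟨r₃, l⟩⟩⟩⟩ <;> rw [hbase] at hlen0 <;>
      simp at hlen0
    simp [xprod, orbEl, hbase]
  set Q := xprod X (X.tw.base 0) ts with hQdef
  have hQH : Q ∈ H := by rw [hQel]; exact ht
  set y' := Q⁻¹ * y * Q * y⁻¹ with hy'def
  have hy'q : y' ∈ qup X.cert F 0 := by
    refine mul_mem ?_ (inv_mem hyq)
    have := xprod_conj_qup X hB hA (X.tw.base 0) [-t, X.frob (-t), X.frob (X.frob (-t))] hds hyq
    rwa [← hQi, inv_inv] at this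
  have hy'H : y' ∈ H := mul_mem (mul_mem (mul_mem (inv_mem hQH) (hM hyp)) hQH) (inv_mem (hM hyp))
  let val : ETerm → F := fun x => (x.2.1 : F) * ev ts x.2.2 * (if pr T x.1 = 1 then zc X x.1 y else 0)
  have hzc : ∀ s x, s < D.nroots → pr T s = 1 →
      (expand T (X.tw.base 0) s).tail.filter (fun z => Nat.beq (par T z.1) b) = [x] → pr T x.1 = 1 →
      ∃ κ : F, κ * κ = 1 ∧ zc X s y' = (x.2.1 : F) * ev ts x.2.2 * κ := by
    intro s x hs hs1 hx hx1
    obtain ⟨-, hmem, -⟩ := expand_spec X hB hA (X.tw.base 0) ts htlen hds hs hs1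
    have hxm : x ∈ (expand T (X.tw.base 0) s).tail ∧ Nat.beq (par T x.1) b = true :=
      List.mem_filter.1 (by rw [hx]; exact List.mem_singleton_self x)
    have hxl := (hmem x (List.mem_of_mem_tail hxm.1)).1
    obtain ⟨κ, hκ, ek⟩ := zc_par X hB hA hxl hx1
    refine ⟨κ, hκ, ?_⟩
    rw [hy'def, hQdef, zc_conj X hB hA htlen hds hyq hy'q hs hs1]
    have : ∀ l : List ETerm, (∀ z ∈ l, z.1 < D.nroots) →
        (l.map val).sum = ((l.filter fun z => Nat.beq (par T z.1) b).map val).sum := by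
      intro l
      induction l with
      | nil => simp
      | cons z l ih =>
        intro hl
        have ih' := ih fun z' hz' => hl z' (List.mem_cons_of_mem _ hz')
        cases hzb : Nat.beq (par T z.1) b
        · rw [List.filter_cons_of_neg (by simp [hzb]), List.map_cons, List.sum_cons, ih']
          have : val z = 0 := by
            by_cases hp : pr T z.1 = 1
            · simp only [val, if_pos hp, hy]
              rw [zc_root X hB hA (hl z (List.mem_cons_self ..)) hp hb hb1.ge (fun e => by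
                rw [← e, Nat.beq_refl] at hzb; exact Bool.noConfusion hzb), mul_zero]
            · simp only [val, if_neg hp, mul_zero]
          rw [this, zero_add]
        · rw [List.filter_cons_of_pos (by simp [hzb]), List.map_cons, List.sum_cons, List.map_cons, List.sum_cons, ih']
    rw [this _ fun z hz => (hmem z (List.mem_of_mem_tail hz)).1, hx, List.map_cons, List.map_nil, List.sum_cons,
      List.sum_nil, add_zero]
    have hxb : par T x.1 = b := Nat.eq_of_beq_eq_true hxm.2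
    simp only [val, if_pos hx1, hy, ← hxb, ek, mul_one]
  obtain ⟨κ₁, hκ₁, e₁⟩ := hzc s₁ x₁ hs₁ h11 hx₁ hp1
  obtain ⟨κ₂, hκ₂, e₂⟩ := hzc s₂ x₂ hs₂ h21 hx₂ hp2
  have hev1 : ev ts x₁.2.2 = X.frob^[i] t := by
    have h' := eqNats_iff _ _ hhot
    rw [h', hts]
    interval_cases i
    · rw [show ((List.range 3).map fun j => bif Nat.beq j 0 then 1 else 0) = [1, 0, 0] from rfl]; simp [ev]
    · rw [show ((List.range 3).map fun j => bif Nat.beq j 1 then 1 else 0) = [0, 1, 0] from rfl]; simp [ev]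
    · rw [show ((List.range 3).map fun j => bif Nat.beq j 2 then 1 else 0) = [0, 0, 1] from rfl]; simp [ev]
  have hev2 : ev ts x₂.2.2 * X.frob^[j] t = t * X.frob t * X.frob (X.frob t) := by
    have h' := eqNats_iff _ _ hm2
    rw [h', hts]
    interval_cases j
    · rw [show ((List.range 3).map fun i => bif Nat.beq i 0 then 0 else 1) = [0, 1, 1] from rfl]; simp [ev]; ring
    · rw [show ((List.range 3).map fun i => bif Nat.beq i 1 then 0 else 1) = [1, 0, 1] from rfl]; simp [ev]; ring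
    · rw [show ((List.range 3).map fun i => bif Nat.beq i 2 then 0 else 1) = [1, 1, 0] from rfl]; simp [ev]
  set e : F := c₁ * ((x₁.2.1 : F) * κ₁) with he
  have hee : e * e = 1 := by
    rw [he]; linear_combination (x₁.2.1 : F) * x₁.2.1 * κ₁ * κ₁ * hc₁ + κ₁ * κ₁ * sgnB_sq (F := F) hsg1 + hκ₁
  have hef : X.frob e = e := sq_one_fixed X.cert X.frob hee
  set P₁ := wnu X.cert F w * X.el 0 (e * t) * (wnu X.cert F w)⁻¹ with hP₁
  have hP₁q : P₁ ∈ qup X.cert F 0 := (o1 _).1
  have hP₁H : P₁ ∈ H :=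
    mul_mem (mul_mem (hM hwp) (params_scale X hB hA hM hH hef ht)) (inv_mem (hM hwp))
  set d := P₁⁻¹ * y' with hd
  have hdq : d ∈ qup X.cert F 0 := mul_mem (inv_mem hP₁q) hy'q
  have hdH : d ∈ H := mul_mem (inv_mem hP₁H) hy'H
  have hfi : X.frob^[i] e = e := Function.iterate_fixed hef i
  have hd1 : zc X s₁ d = 0 := by
    rw [hd, zc_diff X hB hA hs₁ h11 hP₁q hy'q, e₁, hev1, hP₁, TwCtx.el, ec₁, iterate_map_mul, hfi, he]
    linear_combination (-(x₁.2.1 : F) * κ₁ * X.frob^[i] t) * hc₁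
  have hP₁0 : zc X s₂ P₁ = 0 := by
    refine ((orb_coord X hB hA hw hs₂ h21 _ hl hnd).1 _).2 fun hm => ?_
    have := ((himb s₂ hs₂).resolve_left (by simp [lv1, h21])).resolve_left (by
      rw [mem', Bool.eq_false_iff, Ne, not_not, List.any_eq_true]
      exact ⟨_, hm, by simp⟩)
    rw [hdisj] at this
    exact Bool.noConfusion this
  have hd2 : zc X s₂ d = (x₂.2.1 : F) * ev ts x₂.2.2 * κ₂ := by
    rw [hd, zc_diff X hB hA hs₂ h21 hP₁q hy'q, hP₁0, sub_zero, e₂]
  obtain ⟨v, hv⟩ := frob_surj X hB hA i₂ (c₂ * zc X s₂ d)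
  obtain ⟨hPq, hPs, hP0⟩ := hP₂ v
  rw [hv, ← mul_assoc, hc₂, one_mul] at hPs
  set P₂ := n₂ * X.el 0 v * n₂⁻¹ with hP₂def
  have hP₂g : P₂ ∈ X.grp := mul_mem (mul_mem hn₂.1 (el0_grp X hB hA v)) (inv_mem hn₂.1)
  have hq2 := mul_mem (inv_mem hPq) hdq
  have hg2 : P₂⁻¹ * d ∈ X.grp := mul_mem (inv_mem hP₂g) (hH hdH)
  have hpts : P₂⁻¹ * d ∈ pts X := by
    refine pts_of_fixed_coord X hB hA hg2 hq2 fun c hc hc1 => ?_
    cases hcf : isFix X.sym c
    swap
    · exact fix_zc X hB hA hc hc1 hcf hq2 hg2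
    rcases hcov c hc with h | h | h | h
    · exact absurd hc1 h
    · rw [hcf] at h; exact Bool.noConfusion h
    · have hE2 : mem' (orb3 X.sym s₂) c = false := by
        simp only [mem', List.any_eq_true, Nat.beq_eq, exists_eq_right'] at h
        exact hdis' c h
      rw [zc_diff X hB hA hc hc1 hPq hdq, hP0 c hc hc1 hE2, sub_zero,
        zc_sig_zero X hB hA hs₁ h11 hdq (hH hdH) hd1 h, map_zero]
    · rw [zc_sig_zero X hB hA hs₂ h21 hq2 hg2 (by rw [zc_diff X hB hA hs₂ h21 hPq hdq, hPs, sub_self]) h, map_zero]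
  have hvS : v ∈ params X hB hA hM := by
    have hPH : P₂ ∈ H := by
      have := mul_mem hdH (inv_mem (hM hpts))
      simpa using this
    have := mul_mem (mul_mem (inv_mem (hM hn₂)) hPH) (hM hn₂)
    have h' : X.el 0 v ∈ H := by simpa [hP₂def, mul_assoc] using this
    exact h'
  set N := t * X.frob t * X.frob (X.frob t) with hN
  have hper : ∀ z : F, X.frob (X.frob (X.frob z)) = z := fun z => by
    have := X.deg_per z
    rw [hdeg] at this
    simpa [Function.iterate_succ_apply'] using this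
  have hNf : X.frob N = N := by rw [hN, map_mul, map_mul, hper]; ring
  have hN0 : N ≠ 0 := by simp [hN, ht0]
  set g : F := c₂ * ((x₂.2.1 : F) * κ₂) with hg
  have hg0 : g ≠ 0 := mul_ne_zero (sq_one_ne X.cert hc₂)
    (mul_ne_zero (sq_one_ne X.cert (sgnB_sq hsg2)) (sq_one_ne X.cert hκ₂))
  have hgf : X.frob g = g := by
    rw [hg, map_mul, map_mul, sq_one_fixed X.cert X.frob hc₂, map_intCast, sq_one_fixed X.cert X.frob hκ₂]
  have hvv : X.frob^[i₂] v * X.frob^[j] t = g * N := by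
    rw [hv, hd2, hg, ← hev2]; ring
  have h2 := congrArg (X.frob^[2 * i₂]) hvv
  rw [iterate_map_mul, ← Function.iterate_add_apply, ← Function.iterate_add_apply,
    Function.iterate_fixed (by rw [map_mul, hgf, hNf]) (2 * i₂),
    show 2 * i₂ + i₂ = 3 * i₂ by ring, Function.iterate_mul] at h2
  rw [Function.iterate_fixed (show X.frob^[3] v = v by simpa [Function.iterate_succ_apply'] using hper v) i₂] at h2
  have hgN : g * N ≠ 0 := mul_ne_zero hg0 hN0
  have hfin : (X.frob^[2 * i₂ + j] t)⁻¹ = (g * N)⁻¹ * v := by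
    rw [← h2, mul_inv_rev, mul_assoc, inv_mul_cancel₀ (fun e => hgN (by rw [← h2, e, zero_mul])), mul_one]
  rw [hfin]
  exact params_scale X hB hA hM hH (by rw [map_inv₀, map_mul, hgf, hNf]) hvS

/-- A new parameter gives all parameters. -/
theorem params_all (hq2 : X.deg = 2 ∨ (X.deg = 3 ∧ chkQuad T X.sym X.tw W = true))
    {u : F} (hu : X.el 0 u ∈ H) (hfu : X.frob u ≠ u) (z : F) : X.el 0 z ∈ H := by
  have hscale : ∀ {x t : F}, X.frob x = x → t ∈ params X hB hA hM → x * t ∈ params X hB hA hM :=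
    fun hx ht => params_scale X hB hA hM hH hx ht
  have h1 : (1 : F) ∈ params X hB hA hM := hM (el0_pts X hB hA (map_one _))
  rcases hq2 with hdeg | ⟨hdeg, hQ⟩
  · refine all_mem_two X.frob _ hscale h1 (fun z => ?_) (show u ∈ params X hB hA hM from hu) hfu z
    have := X.deg_per z
    rw [hdeg] at this
    exact this
  haveI := X.finite
  have hper : ∀ z : F, X.frob^[3] z = z := fun z => hdeg ▸ X.deg_per z
  obtain ⟨m, hm⟩ := exists_quad X hB hA hM hH hdeg hQ
  have h2m : ∀ t ∈ params X hB hA hM, X.frob^[2 * m] t ∈ params X hB hA hM := fun t ht => by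
    have := hm _ (hm t ht)
    rw [show ∀ x : F, X.frob^[m] x⁻¹ = (X.frob^[m] x)⁻¹ from fun x => by
      rw [← RingHom.coe_pow, map_inv₀], inv_inv, ← Function.iterate_add_apply] at this
    rwa [two_mul]
  have hinv : ∀ t ∈ params X hB hA hM, t⁻¹ ∈ params X hB hA hM := fun t ht => by
    have := hm _ (h2m t ht)
    rwa [← Function.iterate_add_apply, show m + 2 * m = 3 * m by ring, Function.iterate_mul,
      Function.iterate_fixed (hper t) m] at this
  refine all_mem_three X.frob _ hscale h1 (c := X.q) (by rw [X.card, hdeg]) ?_ (fun z => hper z)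
    (show u ∈ params X hB hA hM from hu) (sq_mem_of_inv _ h1 hinv hu) hfu z
  rw [Nat.card_congr (Equiv.subtypeEquivRight fun v => show X.frob v = v ↔ v ^ (X.q ^ 1) = v by
    rw [show X.frob v = X.frob^[1] v from rfl, X.iter])]
  rw [card_fixed_field X.hq.two_le X.card (one_dvd _), pow_one]

omit hM hH

/-- The subfield points are a maximal subgroup. -/
theorem maximal (hq2 : X.deg = 2 ∨ (X.deg = 3 ∧ chkQuad T X.sym X.tw W = true)) :
    pts X ≠ X.grp ∧ ∀ H : Subgroup (GL D.Idx F), pts X ≤ H → H ≤ X.grp → H = pts X ∨ H = X.grp := by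
  haveI := X.finite
  refine ⟨fun e => ?_, fun H hM hH => ?_⟩
  · have hall : ∀ v : F, v ^ (X.q ^ 1) = v := fun v => by
      have hm : X.el 0 v ∈ pts X := e.symm ▸ el0_grp X hB hA v
      have h := ((mem_pts X).1 hm).2
      rw [TwCtx.el, map_orbEl] at h
      have hfv := X.el_injective (orb0 X (trans_facts X hB hA).1) h
      rwa [← X.iter, Function.iterate_one]
    have h1 := card_fixed_field X.hq.two_le X.card (one_dvd _)
    rw [Nat.card_congr (Equiv.subtypeUnivEquiv hall), X.card] at h1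
    have h2 := Nat.pow_right_injective X.hq.two_le h1
    rcases hq2 with hd | ⟨hd, -⟩ <;> omega
  · by_cases hS : ∀ v : F, X.el 0 v ∈ H → X.frob v = v
    · exact Or.inl (le_antisymm (le_pts X hB hA hM hH hS) hM)
    · push Not at hS
      obtain ⟨u, hu, hfu⟩ := hS
      exact Or.inr (le_antisymm hH (grp_le_of_all X hB hA hM hH (params_all X hB hA hM hH hq2 hu hfu)))

end Cfsg.Lib.Chev.TwMax
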