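import Cfsg.Agent.Lib.Chev.TwD4
import Cfsg.Agent.Lib.Chev.TwE6
import Cfsg.Agent.Lib.Chev.TwMax.Data
import Cfsg.Agent.Lib.Chev.TwMax.Gen

/-! The subfield points of ³D₄(q) and ²E₆(q) are maximal. -/

set_option autoImplicit false
set_option linter.unusedSectionVars false
set_option maxRecDepth 100000

namespace Cfsg.Lib.Chev.TwMax

open Cfsg.Lie

variable {K : Type*} [Field K] [Fintype K] {q : ℕ}

theorem mem_pts_entries {D : ChevalleyDatum} {T : Tbl} {F : Type*} [Field F] (X : TwCtx D T F) {g : GL D.Idx F} :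
    g ∈ pts X ↔ g ∈ X.grp ∧ ∀ i j : D.Idx, ((g : Matrix D.Idx D.Idx F) i j) ^ X.q =
      (g : Matrix D.Idx D.Idx F) i j := by
  have e : ∀ z : F, X.frob z = z ^ X.q := fun z => by simpa using X.iter 1 z
  rw [mem_pts]
  refine and_congr_right fun _ => ?_
  rw [Units.ext_iff, ← Matrix.ext_iff]
  simp only [Matrix.GeneralLinearGroup.map_apply, e]

theorem maximal_threeD4 (hq : IsPrimePow q) (hK : Fintype.card K = q ^ 3) (M : Subgroup (GL chevD4.Idx K))
    (hM : ∀ g : GL chevD4.Idx K, g ∈ M ↔ g ∈ Cfsg.Lie.twistedD4 K q ∧ ∀ i j : chevD4.Idx,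
      ((g : Matrix chevD4.Idx chevD4.Idx K) i j) ^ q = (g : Matrix chevD4.Idx chevD4.Idx K) i j) :
    M ≠ Cfsg.Lie.twistedD4 K q ∧ ∀ H : Subgroup (GL chevD4.Idx K),
      M ≤ H → H ≤ Cfsg.Lie.twistedD4 K q → H = M ∨ H = Cfsg.Lie.twistedD4 K q := by
  have hq2 : 2 ≤ q := hq.two_le
  have hK' : Nat.card K = q ^ 3 := by rw [Nat.card_eq_fintype_card]; exact hK
  obtain ⟨f, hf, hit, hk⟩ := exists_frobQ hq (by norm_num) hK'
  have hZ := fun c => hZD4 hk c
  have h := twSimplyD4.twOK certD4C symOKD4_tri f fullCertD4 twCombD4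
  have hgen := twSimplyD4.fixed_eq_closure certD4C symOKD4_tri f fullCertD4 twCombD4 twLinkedD4 hZ
  have heq : Cfsg.Lie.twistedD4 K q = h.fixed certD4C := by
    rw [hgen, Cfsg.Lie.twistedD4, ChevalleyDatum.genSubgroup]
    congr 1
    have b0 : twD4.base 0 = [18, 13, 12] := rfl
    have b1 : twD4.base 1 = [14] := rfl
    have n0 : ([18, 13, 12] : List ℕ).map tblD4.neg = [5, 10, 11] := by decide +kernel
    have n1 : ([14] : List ℕ).map tblD4.neg = [9] := by decide +kernel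
    have v1 : ∀ t : K, f^[(twD4.orb 1).length] t = t ↔ t ^ q = t := fun t => by
      rw [show (twD4.orb 1).length = 1 from rfl, hit, pow_one]
    have v0 : ∀ t : K, f^[(twD4.orb 0).length] t = t := fun t => hk t
    have hcoe : ∀ (r : ℕ) (t : K), ((orbEl certD4C f [r] t : GL chevD4.Idx K) : Matrix chevD4.Idx chevD4.Idx K) =
        chevD4.wordMat K [(r, t)] := fun r t => by simp [orbEl, ChevalleyDatum.wordMat, coe_xg]
    have hcoe3 : ∀ (r s u : ℕ) (t : K), ((orbEl certD4C f [r, s, u] t : GL chevD4.Idx K) :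
        Matrix chevD4.Idx chevD4.Idx K) = chevD4.wordMat K [(r, t), (s, t ^ q), (u, t ^ (q ^ 2))] := fun r s u t => by
      simp [orbEl, ChevalleyDatum.wordMat, coe_xg, hf, ← pow_mul, ← sq, mul_assoc]
    ext g
    constructor
    · rintro ⟨w, hw, hg⟩
      rcases hw with ⟨t, ht, r, hr, rfl⟩ | ⟨t, rs, hr, rfl⟩
      · simp only [List.mem_cons, List.not_mem_nil, or_false] at hr
        rcases hr with rfl | rfl
        · exact ⟨1, by decide, t, (v1 t).2 ht, Or.inl (Units.ext (by rw [hg, b1, hcoe]; rfl))⟩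
        · exact ⟨1, by decide, t, (v1 t).2 ht, Or.inr (Units.ext (by rw [hg, b1, n1, hcoe]; rfl))⟩
      · simp only [List.mem_cons, List.not_mem_nil, or_false] at hr
        rcases hr with rfl | rfl
        · exact ⟨0, by decide, t, v0 t, Or.inl (Units.ext (by rw [hg, b0, hcoe3]; rfl))⟩
        · exact ⟨0, by decide, t, v0 t, Or.inr (Units.ext (by rw [hg, b0, n0, hcoe3]; rfl))⟩
    · rintro ⟨J, hJ, t, ht, hg⟩
      have : J = 0 ∨ J = 1 := by
        have : J < 2 := hJ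
        omega
      rcases this with rfl | rfl
      · rcases hg with rfl | rfl
        · exact ⟨_, Or.inr ⟨t, (d4p1, d4p3, d4p4), by simp, rfl⟩, by rw [b0, hcoe3]; rfl⟩
        · exact ⟨_, Or.inr ⟨t, (d4m1, d4m3, d4m4), by simp, rfl⟩, by rw [b0, n0, hcoe3]; rfl⟩
      · rcases hg with rfl | rfl
        · exact ⟨_, Or.inl ⟨t, (v1 t).1 ht, d4p2, by simp, rfl⟩, by rw [b1, hcoe]; rfl⟩
        · exact ⟨_, Or.inl ⟨t, (v1 t).1 ht, d4m2, by simp, rfl⟩, by rw [b1, n1, hcoe]; rfl⟩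
  let X : TwCtx chevD4 tblD4 K := ⟨symD4_3, twD4, 3, f, q, certD4C, fullCertD4, symOKD4_tri, twCombD4, twLinkedD4,
    twSimplyD4, hq, hK', by norm_num, hit, hZ⟩
  have hgrp : Cfsg.Lie.twistedD4 K q = X.grp := heq
  have hMeq : M = pts X := Subgroup.ext fun g => by rw [hM, mem_pts_entries, hgrp]
  rw [hMeq, hgrp]
  exact maximal X Ovg.base_D4 (W := witD4) all_D4 (Or.inr ⟨rfl, quad_D4⟩)

theorem maximal_twoE6 (hq : IsPrimePow q) (hK : Fintype.card K = q ^ 2) (M : Subgroup (GL chevE6.Idx K))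
    (hM : ∀ g : GL chevE6.Idx K, g ∈ M ↔ g ∈ Cfsg.Lie.twistedE6 K q ∧ ∀ i j : chevE6.Idx,
      ((g : Matrix chevE6.Idx chevE6.Idx K) i j) ^ q = (g : Matrix chevE6.Idx chevE6.Idx K) i j) :
    M ≠ Cfsg.Lie.twistedE6 K q ∧ ∀ H : Subgroup (GL chevE6.Idx K),
      M ≤ H → H ≤ Cfsg.Lie.twistedE6 K q → H = M ∨ H = Cfsg.Lie.twistedE6 K q := by
  have hq2 : 2 ≤ q := hq.two_le
  have hK' : Nat.card K = q ^ 2 := by rw [Nat.card_eq_fintype_card]; exact hK
  obtain ⟨f, hf, hit, hk⟩ := exists_frobQ hq (by norm_num) hK'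
  have hZ := fun c => hZE6 hk c
  have h := twSimplyE6.twOK certE6C symOKE6_gr f fullCertE6 twCombE6
  have hgen := twSimplyE6.fixed_eq_closure certE6C symOKE6_gr f fullCertE6 twCombE6 twLinkedE6 hZ
  have heq : Cfsg.Lie.twistedE6 K q = h.fixed certE6C := by
    rw [hgen, Cfsg.Lie.twistedE6, ChevalleyDatum.genSubgroup]
    congr 1
    have b0 : twE6.base 0 = [56, 36] := rfl
    have b1 : twE6.base 1 = [42, 37] := rfl
    have b2 : twE6.base 2 = [39] := rfl
    have b3 : twE6.base 3 = [46] := rfl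
    have n0 : ([56, 36] : List ℕ).map tblE6.neg = [15, 35] := by decide +kernel
    have n1 : ([42, 37] : List ℕ).map tblE6.neg = [29, 34] := by decide +kernel
    have n2 : ([39] : List ℕ).map tblE6.neg = [32] := by decide +kernel
    have n3 : ([46] : List ℕ).map tblE6.neg = [25] := by decide +kernel
    have v2 : ∀ (J : ℕ), J = 2 ∨ J = 3 → ∀ t : K, f^[(twE6.orb J).length] t = t ↔ t ^ q = t := by
      rintro J (rfl | rfl) t
      · rw [show (twE6.orb 2).length = 1 from rfl, hit, pow_one]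
      · rw [show (twE6.orb 3).length = 1 from rfl, hit, pow_one]
    have v0 : ∀ (J : ℕ), J = 0 ∨ J = 1 → ∀ t : K, f^[(twE6.orb J).length] t = t := by
      rintro J (rfl | rfl) t <;> exact hk t
    have hcoe : ∀ (r : ℕ) (t : K), ((orbEl certE6C f [r] t : GL chevE6.Idx K) : Matrix chevE6.Idx chevE6.Idx K) =
        chevE6.wordMat K [(r, t)] := fun r t => by simp [orbEl, ChevalleyDatum.wordMat, coe_xg]
    have hcoe2 : ∀ (r s : ℕ) (t : K), ((orbEl certE6C f [r, s] t : GL chevE6.Idx K) :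
        Matrix chevE6.Idx chevE6.Idx K) = chevE6.wordMat K [(r, t), (s, t ^ q)] := fun r s t => by
      simp [orbEl, ChevalleyDatum.wordMat, coe_xg, hf]
    ext g
    constructor
    · rintro ⟨w, hw, hg⟩
      rcases hw with ⟨t, ht, r, hr, rfl⟩ | ⟨t, rs, hr, rfl⟩
      · simp only [List.mem_cons, List.not_mem_nil, or_false] at hr
        rcases hr with rfl | rfl | rfl | rfl
        · exact ⟨3, by decide, t, (v2 3 (by simp) t).2 ht, Or.inl (Units.ext (by rw [hg, b3, hcoe]; rfl))⟩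
        · exact ⟨3, by decide, t, (v2 3 (by simp) t).2 ht, Or.inr (Units.ext (by rw [hg, b3, n3, hcoe]; rfl))⟩
        · exact ⟨2, by decide, t, (v2 2 (by simp) t).2 ht, Or.inl (Units.ext (by rw [hg, b2, hcoe]; rfl))⟩
        · exact ⟨2, by decide, t, (v2 2 (by simp) t).2 ht, Or.inr (Units.ext (by rw [hg, b2, n2, hcoe]; rfl))⟩
      · simp only [List.mem_cons, List.not_mem_nil, or_false] at hr
        rcases hr with rfl | rfl | rfl | rfl
        · exact ⟨0, by decide, t, v0 0 (by simp) t, Or.inl (Units.ext (by rw [hg, b0, hcoe2]; rfl))⟩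
        · exact ⟨0, by decide, t, v0 0 (by simp) t, Or.inr (Units.ext (by rw [hg, b0, n0, hcoe2]; rfl))⟩
        · exact ⟨1, by decide, t, v0 1 (by simp) t, Or.inl (Units.ext (by rw [hg, b1, hcoe2]; rfl))⟩
        · exact ⟨1, by decide, t, v0 1 (by simp) t, Or.inr (Units.ext (by rw [hg, b1, n1, hcoe2]; rfl))⟩
    · rintro ⟨J, hJ, t, ht, hg⟩
      have : J = 0 ∨ J = 1 ∨ J = 2 ∨ J = 3 := by
        have : J < 4 := hJ
        omega
      rcases this with rfl | rfl | rfl | rfl <;> rcases hg with rfl | rfl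
      · exact ⟨_, Or.inr ⟨t, (e6p1, e6p6), by simp, rfl⟩, by rw [b0, hcoe2]; rfl⟩
      · exact ⟨_, Or.inr ⟨t, (e6m1, e6m6), by simp, rfl⟩, by rw [b0, n0, hcoe2]; rfl⟩
      · exact ⟨_, Or.inr ⟨t, (e6p3, e6p5), by simp, rfl⟩, by rw [b1, hcoe2]; rfl⟩
      · exact ⟨_, Or.inr ⟨t, (e6m3, e6m5), by simp, rfl⟩, by rw [b1, n1, hcoe2]; rfl⟩
      · exact ⟨_, Or.inl ⟨t, (v2 2 (by simp) t).1 ht, e6p4, by simp, rfl⟩, by rw [b2, hcoe]; rfl⟩
      · exact ⟨_, Or.inl ⟨t, (v2 2 (by simp) t).1 ht, e6m4, by simp, rfl⟩, by rw [b2, n2, hcoe]; rfl⟩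
      · exact ⟨_, Or.inl ⟨t, (v2 3 (by simp) t).1 ht, e6p2, by simp, rfl⟩, by rw [b3, hcoe]; rfl⟩
      · exact ⟨_, Or.inl ⟨t, (v2 3 (by simp) t).1 ht, e6m2, by simp, rfl⟩, by rw [b3, n3, hcoe]; rfl⟩
  let X : TwCtx chevE6 tblE6 K := ⟨symE6_1, twE6, 2, f, q, certE6C, fullCertE6, symOKE6_gr, twCombE6, twLinkedE6,
    twSimplyE6, hq, hK', by norm_num, hit, hZ⟩
  have hgrp : Cfsg.Lie.twistedE6 K q = X.grp := heq
  have hMeq : M = pts X := Subgroup.ext fun g => by rw [hM, mem_pts_entries, hgrp]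
  rw [hMeq, hgrp]
  exact maximal X Ovg.base_E6 (W := witE6) all_E6 (Or.inl rfl)

end Cfsg.Lib.Chev.TwMax
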